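import Cfsg.Agent.Fusion.NormalCentral.Local

/-!
The choice of the element of `c Z(T)` fixed by the automorphisms of `T` and of `J(T)`.
-/

set_option autoImplicit false
set_option linter.style.haveILetI false

open Cfsg Cfsg.FusionSystem CfsgLib.Fusion CfsgLib.FocCent

namespace CfsgLib.NormalCentral

universe u

variable {Ω : Type u} [Group Ω] {S T : Subgroup Ω} {F : FusionSystem S} {E : FusionSystem T} {c : Ω}

theorem NearLifts.one {U : Subgroup Ω} : NearLifts F c (1 : MulAut U) :=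
  ⟨1, one_mem _, Agree.one, by simp [adjElt]⟩

theorem NearLifts.mul {U : Subgroup Ω} {a b : MulAut U} (ha : NearLifts F c a)
    (hb : NearLifts F c b) : NearLifts F c (a * b) := by
  obtain ⟨σ, hσ, hσa, hu⟩ := ha
  obtain ⟨τ, hτ, hτb, hw⟩ := hb
  refine ⟨σ * τ, mul_mem hσ hτ, hσa.mul hτb, ?_⟩
  have e : τ (adjElt c U) = adjElt c U * Subgroup.inclusion le_sup_left ⟨_, hw⟩ :=
    Subtype.ext (by simp [adjElt])
  rw [MulAut.mul_apply, e, map_mul, Subgroup.coe_mul, hσa, ← mul_assoc]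
  exact mul_mem hu (SetLike.coe_mem _)

theorem NearLifts.inv {U : Subgroup Ω} {a : MulAut U} (ha : NearLifts F c a) :
    NearLifts F c a⁻¹ := by
  obtain ⟨σ, hσ, hσa, hu⟩ := ha
  refine ⟨σ⁻¹, inv_mem hσ, hσa.inv, ?_⟩
  have e : σ⁻¹ (adjElt c U) =
      adjElt c U * (Subgroup.inclusion le_sup_left (a⁻¹ ⟨_, hu⟩))⁻¹ := by
    refine σ.injective ?_
    rw [MulAut.apply_inv_self, map_mul, map_inv, hσa.apply, MulAut.apply_inv_self,
      eq_mul_inv_iff_mul_eq]
    exact Subtype.ext (by simp [adjElt])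
  rw [e]
  simp [adjElt]

/-- A displacement at `T` lies in the focal subgroup of `C_F(T)`. -/
theorem Disp.mem_focal [Finite S] (hTS : T ≤ S) (hc : c ∈ centralizerIn S T) {z : Ω}
    (h : Disp F c T z) : z ∈ (centSystem F T hTS).focalSubgroup := by
  obtain ⟨hzT, η, hη, hηa, hηc⟩ := h
  have hD := adj_le hc (le_refl T) hTS
  have hηF := (autGroup_carrier hD).1 hη
  have hle : Subgroup.zpowers c ≤ centralizerIn S T := Subgroup.zpowers_le.2 hc
  let φ : Subgroup.zpowers c →* Ω :=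
    ((adj c T).subtype.comp η.toMonoidHom).comp (Subgroup.inclusion le_sup_right)
  have hval : ∀ x, φ x ∈ centralizerIn S T := fun x => by
    refine mem_centralizerIn.2 ⟨hD (η _).2, fun y hy => ?_⟩
    have h1 : ((η (Subgroup.inclusion le_sup_left ⟨y, hy⟩) : adj c T) : Ω) = y := hηa ⟨y, hy⟩
    show y * ((η (Subgroup.inclusion le_sup_right x) : adj c T) : Ω) =
      ((η (Subgroup.inclusion le_sup_right x) : adj c T) : Ω) * y
    rw [← h1, ← Subgroup.coe_mul, ← Subgroup.coe_mul, ← map_mul, ← map_mul]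
    exact congrArg (fun w => ((η w : adj c T) : Ω)) (Subtype.ext ((hle x.2).2 y hy))
  refine Subgroup.subset_closure ⟨Subgroup.zpowers c, φ, ⟨c, Subgroup.mem_zpowers c⟩, ?_, ?_⟩
  · exact ⟨restrict_mem hηF le_sup_right, hle, hval,
      ((adj c T).subtype.comp η.toMonoidHom).comp
        (Subgroup.inclusion (sup_le le_sup_right le_sup_left)),
      restrict_mem hηF _, fun x => rfl, fun x => hηa x⟩
  · show z = c⁻¹ * ((η (adjElt c T) : adj c T) : Ω)
    rw [hηc, inv_mul_cancel_left]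

/-- An automorphism of order prime to `p` moving `c` by an element it fixes fixes `c`. -/
theorem fix_of_shift {p : ℕ} [Fact p.Prime] {U : Subgroup Ω} [Finite U] (hUp : IsPGroup p U)
    {σ : MulAut (adj c U)} {a : MulAut U} (hσa : Agree le_sup_left σ a)
    (hco : (orderOf σ).Coprime p) {z : U} (hz : a z = z)
    (hc : ((σ (adjElt c U) : adj c U) : Ω) = c * z) : σ (adjElt c U) = adjElt c U := by
  have hσ1 : σ (adjElt c U) = adjElt c U * Subgroup.inclusion le_sup_left z := Subtype.ext hc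
  have hn : ∀ n : ℕ, (σ ^ n) (adjElt c U) =
      adjElt c U * Subgroup.inclusion le_sup_left (z ^ n) := by
    intro n
    induction n with
    | zero => simp
    | succ n ih =>
      rw [pow_succ', MulAut.mul_apply, ih, map_mul, hσ1, hσa.apply, map_pow a, hz, pow_succ',
        map_mul, mul_assoc]
  have h1 : z ^ orderOf σ = 1 := by
    have := hn (orderOf σ)
    rw [pow_orderOf_eq_one, MulAut.one_apply] at this
    exact Subgroup.inclusion_injective (le_sup_left : U ≤ adj c U)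
      ((left_eq_mul.1 this).trans (map_one _).symm)
  obtain ⟨j, hj⟩ := IsPGroup.iff_orderOf.1 hUp z
  rw [hσ1, orderOf_eq_one_iff.1 (Nat.eq_one_of_dvd_coprimes (hco.pow_right j)
    (orderOf_dvd_of_pow_eq_one h1) hj.dvd), map_one, mul_one]

variable [Finite S] {p : ℕ} [Fact p.Prime]

/-- A power of order prime to `p` of a lift still lifts. -/
theorem exists_coprime_lift {U : Subgroup Ω} [Finite U] (hD : adj c U ≤ S) {σ : MulAut (adj c U)}
    {a : MulAut U} (hσa : Agree le_sup_left σ a) (hco : (orderOf a).Coprime p) :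
    ∃ n : ℕ, (orderOf (σ ^ n)).Coprime p ∧ Agree le_sup_left (σ ^ n) a := by
  haveI := finite_of_le hD
  haveI : Finite (MulAut (adj c U)) := finite_mulAut
  obtain ⟨n, hn1, hn2⟩ := ConstrainedNormal.exists_pow_coprime p σ
  have h1 : a ^ n = a := hn2 a hco
    (orderOf_dvd_of_pow_eq_one ((hσa.pow _).eq_one (pow_orderOf_eq_one σ)))
  exact ⟨n, hn1, by simpa [h1] using hσa.pow n⟩

/-- The element of `c Z(T)` good on `T` and on `J(T)`. -/
theorem exists_base (hS : IsPGroup p S) (hF : F.IsSaturated p) (hE : E.IsNormalIn F p)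
    (hc : c ∈ centralizerIn S T)
    (hfoc : (centSystem F T (le_of_subsystem hE.1.2.2.1)).focalSubgroup ≤ T) :
    ∃ z ∈ T, c * z ∈ centralizerIn S T ∧ Good F E (c * z) T ∧
      Good F E (c * z) (thompsonSubgroupAOf T) := by
  classical
  have hTS : T ≤ S := le_of_subsystem hE.1.2.2.1
  replace hfoc : (centSystem F T hTS).focalSubgroup ≤ T := hfoc
  obtain ⟨⟨hEs, -, hinv⟩, hext⟩ := hE
  have hT := isPGroup_of_le hS hTS
  haveI := finite_of_le hTS
  haveI : Finite (MulAut T) := finite_mulAut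
  set J := thompsonSubgroupAOf T with hJdef
  have hJT : J ≤ T := thompsonAOf_le T
  have hJS : J ≤ S := hJT.trans hTS
  haveI := finite_of_le hJS
  haveI : Finite (MulAut J) := finite_mulAut
  have hTJn : T ≤ Subgroup.normalizer (J : Set Ω) :=
    (CfsgLib.Fusion.isCharIn_thompsonAOf (S := T)).le_normalizer
  have hNJ : normalizerIn T J = T := le_antisymm (normalizerIn_le_S J) (le_inf le_rfl hTJn)
  have hNT : normalizerIn T T = T := normalizerIn_self
  have hTc : E.IsCentric T := isCentric_S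
  have hTn : E.IsFullyNormalized T := isFullyNormalized_S
  have hJc : E.IsCentric J := by
    have h := centric_thompson hS hEs hTS hTc hTn (by rw [hNT]; exact hJT)
    rwa [hNT] at h
  have hJn : E.IsFullyNormalized J := ⟨hJT, fun R _ => by
    rw [hNJ]; exact card_le_of_le le_rfl (normalizerIn_le_S R)⟩
  -- the focal subgroup is fixed by `E`
  set X := (centSystem F T hTS).focalSubgroup with hX
  have hfocfix : ∀ (P : Subgroup Ω), P ≤ T → ∀ a ∈ E.autGroup P, ∀ x : P, (x : Ω) ∈ X → a x = x := by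
    intro P hPT a ha x hx
    obtain ⟨-, -, -, ψ, -, hψe, hψf⟩ :=
      CfsgLib.FocCent.hom_le_centralizerHom p hS ⟨⟨hEs, hF, hinv⟩, hext⟩ hTS P
        ((autGroup_carrier hPT).1 ha)
    exact Subtype.ext (((hψe x).symm.trans (apply_congr ψ rfl)).trans (hψf ⟨x, hx⟩))
  -- `J(T)`: the normal closure of `T` fixes a translate
  obtain ⟨K⟩ := exists_ctx hS hF hEs hinv hJc hJn
  set L := Subgroup.normalClosure ((img K.j (normalizerIn T J) : Subgroup K.G) : Set K.G) with hL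
  haveI hLn : L.Normal := Subgroup.normalClosure_normal
  haveI := K.normalP
  have hJN : J ≤ normalizerIn S J := le_normalizerIn hJS
  have hTN : T ≤ normalizerIn S J := le_inf hTS hTJn
  have hcN : c ∈ normalizerIn S J :=
    centralizerIn_le_normalizerIn J ⟨hc.1, Subgroup.centralizer_le hJT hc.2⟩
  set cg := K.j ⟨c, hcN⟩ with hcg
  set VG := img K.j (normalizerIn T J) with hVG
  have hVL : VG ≤ L := Subgroup.le_normalClosure
  let A : Subgroup K.G := img K.j J ⊓ Subgroup.centralizer ((img K.j J : Subgroup K.G) : Set K.G)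
  haveI hAn : A.Normal := inferInstance
  haveI : IsMulCommutative A := ⟨⟨fun a b => Subtype.ext (b.2.2 a a.2.1)⟩⟩
  have hcgJ : cg ∈ Subgroup.centralizer ((img K.j J : Subgroup K.G) : Set K.G) := by
    refine Subgroup.mem_centralizer_iff.2 ?_
    rintro _ ⟨x, hx, rfl⟩
    rw [hcg, ← map_mul, ← map_mul]
    exact congrArg K.j (Subtype.ext (hc.2 (x : Ω) (hJT hx)))
  have hd : ∀ g ∈ L, cg⁻¹ * g * cg * g⁻¹ ∈ A := by
    intro g hg
    have h1 := K.comm g hg ⟨c, hcN⟩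
      (show c ∈ centralizerIn S J from ⟨hc.1, Subgroup.centralizer_le hJT hc.2⟩)
    have h2 : cg⁻¹ * g * cg * g⁻¹ = cg⁻¹ * (g * cg * g⁻¹ * cg⁻¹) * cg := by group
    refine ⟨?_, ?_⟩
    · rw [h2]
      simpa using K.normalP.conj_mem _ h1 cg⁻¹
    · rw [show cg⁻¹ * g * cg * g⁻¹ = cg⁻¹ * (g * cg * g⁻¹) by group]
      exact mul_mem ((Subgroup.centralizer _).inv_mem hcgJ) ((inferInstance : (Subgroup.centralizer
        ((img K.j J : Subgroup K.G) : Set K.G)).Normal).conj_mem _ hcgJ g)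
  have hi : ¬ p ∣ VG.relIndex L := by
    let PS : Sylow p L :=
      { toSubgroup := VG.subgroupOf L
        isPGroup' := (K.range_p.to_le (img_le_range _)).comap_of_injective _ L.subtype_injective
        is_maximal' := fun {R} hR hle => le_antisymm (fun r hr =>
          Subgroup.mem_subgroupOf.2 (K.max (R.map L.subtype) (hR.map _)
            (fun x hx => ⟨⟨x, hVL hx⟩, hle hx, rfl⟩) (Subgroup.map_subtype_le R) ⟨r, hr, rfl⟩)) hle }
    exact PS.not_dvd_index
  have hAp : IsPGroup p A := K.range_p.to_le (inf_le_left.trans (img_le_range J))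
  obtain ⟨a₁, ha₁, ha₁V, ha₁L⟩ := exists_avg L A ⊥ VG hAp cg
    (fun g _ d hd => by rw [Subgroup.mem_bot.1 hd]; group)
    (fun g _ a ha => hAn.conj_mem a ha g) hd hi (fun v hv _ => by
      obtain ⟨x, hx, rfl⟩ := hv
      rw [Subgroup.mem_bot, hcg, ← map_inv, ← map_inv, ← map_mul, ← map_mul, ← map_mul]
      refine (congrArg K.j (Subtype.ext ?_)).trans (map_one K.j)
      show c⁻¹ * (x : Ω) * c * (x : Ω)⁻¹ = 1
      rw [mul_assoc c⁻¹, hc.2 (x : Ω) hx.1]
      group)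
  obtain ⟨z₁, hz₁, hz₁e⟩ := ha₁.1
  have hz₁T : (z₁ : Ω) ∈ T := hJT hz₁
  have hz₁c : ∀ t ∈ T, t * (z₁ : Ω) = (z₁ : Ω) * t := by
    intro t ht
    have htV : K.j ⟨t, hTN ht⟩ ∈ VG := apply_mem_img (by rw [hNJ]; exact ht)
    have h1 := Subgroup.mem_bot.1 (ha₁V _ htV (hVL htV))
    rw [← hz₁e, ← map_inv, ← map_inv, ← map_mul, ← map_mul, ← map_mul, ← map_one K.j] at h1
    have h2 : (z₁ : Ω)⁻¹ * t * z₁ * t⁻¹ = 1 := congrArg Subtype.val (K.inj h1)
    calc t * (z₁ : Ω) = z₁ * ((z₁ : Ω)⁻¹ * t * z₁ * t⁻¹) * t := by group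
      _ = z₁ * t := by rw [h2, mul_one]
  set c₁ := c * (z₁ : Ω) with hc₁def
  have hc₁ : c₁ ∈ centralizerIn S T :=
    mul_mem hc (mem_centralizerIn.2 ⟨hTS hz₁T, hz₁c⟩)
  have hc₁N : c₁ ∈ normalizerIn S J :=
    centralizerIn_le_normalizerIn J ⟨hc₁.1, Subgroup.centralizer_le hJT hc₁.2⟩
  have hL₁ : ∀ l ∈ L, l * K.j ⟨c₁, hc₁N⟩ = K.j ⟨c₁, hc₁N⟩ * l := by
    intro l hl
    have h1 := Subgroup.mem_bot.1 (ha₁L l hl)
    have e : K.j ⟨c₁, hc₁N⟩ = cg * a₁ := by
      rw [hcg, ← hz₁e, ← map_mul]; rfl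
    rw [e]
    calc l * (cg * a₁) = cg * a₁ * ((cg * a₁)⁻¹ * l * (cg * a₁) * l⁻¹) * l := by group
      _ = cg * a₁ * l := by rw [h1, mul_one]
  -- automorphisms of `T` nearly lift, for every translate
  have hnearT : ∀ {c' : Ω}, c' ∈ centralizerIn S T → ∀ a ∈ E.autGroup T, NearLifts F c' a := by
    intro c' hc' a ha
    obtain ⟨β, hβ, hβa, hβc⟩ := hext a ha
    have hR : T ⊔ centralizerIn S T ≤ S := sup_le hTS (centralizerIn_le_S T)
    have hle : adj c' T ≤ T ⊔ centralizerIn S T := sup_le_sup_left (Subgroup.zpowers_le.2 hc') T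
    haveI := finite_of_le (adj_le hc' le_rfl hTS)
    have hsub : adj c' T ≤ (((adj c' T).subgroupOf (T ⊔ centralizerIn S T)).comap
        β.toMonoidHom).map (T ⊔ centralizerIn S T).subtype := by
      refine sup_le (fun x hx => ⟨Subgroup.inclusion le_sup_left ⟨x, hx⟩, ?_, rfl⟩)
        (Subgroup.zpowers_le.2 ⟨⟨c', Subgroup.mem_sup_right hc'⟩, ?_, rfl⟩)
      · exact Subgroup.mem_sup_left (Set.mem_of_eq_of_mem (hβa ⟨x, hx⟩) (a ⟨x, hx⟩).2)
      · show ((β ⟨c', _⟩ : ↥(T ⊔ centralizerIn S T)) : Ω) ∈ adj c' T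
        have h1 := mul_mem (Subgroup.mem_sup_right (Subgroup.mem_zpowers c') : c' ∈ adj c' T)
          (Subgroup.mem_sup_left (hβc ⟨c', Subgroup.mem_sup_right hc'⟩ hc').1)
        simpa using h1
    obtain ⟨σ, hσ⟩ := exists_agree hle β fun x hx => by
      obtain ⟨y, hy, hye⟩ := hsub hx
      exact (Subtype.ext hye : y = x) ▸ hy
    refine ⟨σ, hσ.mem hR hβ, fun x => ?_, ?_⟩
    · rw [← hσ (Subgroup.inclusion le_sup_left x)]
      exact hβa x
    · rw [← hσ (adjElt c' T)]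
      exact (hβc ⟨c', Subgroup.mem_sup_right hc'⟩ hc').1
  -- restriction to `J`
  have hres : ∀ {c' : Ω}, c' ∈ centralizerIn S T → ∀ {σ : MulAut (adj c' T)} {a : MulAut T}
      {a' : MulAut J}, Agree le_sup_left σ a → Agree hJT a a' → σ ∈ F.autGroup (adj c' T) →
      c'⁻¹ * ((σ (adjElt c' T) : adj c' T) : Ω) ∈ J →
      ∃ τ ∈ F.autGroup (adj c' J), Agree le_sup_left τ a' ∧
        ((τ (adjElt c' J) : adj c' J) : Ω) = ((σ (adjElt c' T) : adj c' T) : Ω) := by
    intro c' hc' σ a a' hσa haa' hσ hd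
    have hle : adj c' J ≤ adj c' T := sup_le_sup_right hJT _
    haveI := finite_of_le (adj_le hc' hJT hTS)
    have hsub : adj c' J ≤ (((adj c' J).subgroupOf (adj c' T)).comap
        σ.toMonoidHom).map (adj c' T).subtype := by
      refine sup_le (fun x hx => ⟨Subgroup.inclusion le_sup_left ⟨x, hJT hx⟩, ?_, rfl⟩)
        (Subgroup.zpowers_le.2 ⟨adjElt c' T, ?_, rfl⟩)
      · exact Subgroup.mem_sup_left (Set.mem_of_eq_of_mem
          ((hσa ⟨x, hJT hx⟩).trans (haa' ⟨x, hx⟩)) (a' ⟨x, hx⟩).2)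
      · show ((σ (adjElt c' T) : adj c' T) : Ω) ∈ adj c' J
        have h1 := mul_mem (Subgroup.mem_sup_right (Subgroup.mem_zpowers c') : c' ∈ adj c' J)
          (Subgroup.mem_sup_left hd)
        simpa using h1
    obtain ⟨τ, hτ⟩ := exists_agree hle σ fun x hx => by
      obtain ⟨y, hy, hye⟩ := hsub hx
      exact (Subtype.ext hye : y = x) ▸ hy
    refine ⟨τ, hτ.mem (adj_le hc' le_rfl hTS) hσ, fun x => ?_, (hτ (adjElt c' J)).symm⟩
    rw [← hτ (Subgroup.inclusion le_sup_left x)]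
    exact (hσa (Subgroup.inclusion hJT x)).trans (haa' x)
  have hresE : ∀ a ∈ E.autGroup T, ∃ a' ∈ E.autGroup J, Agree hJT a a' := by
    intro a ha
    obtain ⟨a', ha'⟩ := exists_agree hJT a fun x hx => by
      exact ((CfsgLib.Fusion.isCharIn_thompsonAOf (S := T)).2 a x).2 hx
    exact ⟨a', ha'.mem (F := E) le_rfl ha, ha'⟩
  have hcentre : ∀ z ∈ T, (∀ t ∈ T, t * z = z * t) → z ∈ J := fun z hz hzc =>
    center_le_thompsonAOf T ⟨hz, hzc⟩
  -- automorphisms of `J` nearly lift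
  have hnearJ : ∀ a ∈ E.autGroup J, NearLifts F c₁ a := by
    intro a ha
    let B : Subgroup (E.autGroup J) :=
      { carrier := {a | NearLifts F c₁ (a : MulAut J)}
        one_mem' := NearLifts.one
        mul_mem' := fun h h' => h.mul h'
        inv_mem' := fun h => h.inv }
    refine mem_of_normalizer hS hEs hinv hJT hJn B (fun γ t ht => ?_) (fun b hb hco => ?_) ⟨a, ha⟩
    · exact (K.lifts_conj hinv hc₁ hJT hc₁N hL₁ γ t ht).near
    · obtain ⟨b', hb', -, hbb'⟩ := exists_ext_normalizer hS hEs hinv hJc hJn hb hco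
      obtain ⟨B', hB'⟩ : ∃ B' : MulAut T, B' ∈ E.autGroup T ∧ Agree hJT B' (b : MulAut J) := by
        have hTle : T ≤ normalizerIn T J := hNJ.ge
        haveI := finite_of_le (normalizerIn_le_S (S := T) J)
        obtain ⟨B', hB'⟩ := exists_agree hTle b' fun x _ => normalizerIn_le_S J (b' x).2
        exact ⟨B', hB'.mem (F := E) (normalizerIn_le_S J) hb', fun x =>
          (hB' (Subgroup.inclusion hJT x)).symm.trans (hbb' x)⟩
      obtain ⟨σ, hσ, hσa, hσc⟩ := hnearT hc₁ B' hB'.1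
      have hd : c₁⁻¹ * ((σ (adjElt c₁ T) : adj c₁ T) : Ω) ∈ J := by
        refine hcentre _ hσc fun t ht => ?_
        have h1 := image_comm hc₁ le_rfl hσa ⟨t, ht⟩
        have h2 : t * c₁⁻¹ = c₁⁻¹ * t :=
          ((show Commute t c₁ from hc₁.2 t ht).inv_right).eq
        rw [← mul_assoc, h2, mul_assoc, h1, mul_assoc]
      obtain ⟨τ, hτ, hτa, hτc⟩ := hres hc₁ hσa hB'.2 hσ hd
      exact ⟨τ, hτ, hτa, by rw [hτc]; exact hd⟩
  -- `K = O^{p'}(Aut_E(J))`
  obtain ⟨R, hR⟩ := (good_of_fullyNormalized p hT hEs hJn).1.2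
  let KJ := Subgroup.normalClosure ((R : Subgroup (E.autGroup J)) : Set (E.autGroup J))
  have hKJlift : ∀ κ ∈ KJ, Lifts F c₁ (κ : MulAut J) := by
    let B : Subgroup (E.autGroup J) :=
      { carrier := {a | Lifts F c₁ (a : MulAut J)}
        one_mem' := ⟨1, one_mem _, Agree.one, rfl⟩
        mul_mem' := by
          rintro a b ⟨σ, hσ, hσa, hσc⟩ ⟨τ, hτ, hτb, hτc⟩
          exact ⟨σ * τ, mul_mem hσ hτ, hσa.mul hτb, by rw [MulAut.mul_apply, hτc, hσc]⟩
        inv_mem' := by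
          rintro a ⟨σ, hσ, hσa, hσc⟩
          refine ⟨σ⁻¹, inv_mem hσ, hσa.inv, σ.injective ?_⟩
          rw [MulAut.apply_inv_self, hσc] }
    suffices h : KJ ≤ B from h
    refine (Subgroup.closure_le _).2 fun k hk => ?_
    obtain ⟨t, ht, g, hg⟩ := Group.mem_conjugatesOfSet_iff.1 hk
    rw [SetLike.mem_coe, hR, Subgroup.mem_subgroupOf] at ht
    rw [eq_mul_inv_of_mul_eq hg.eq.symm]
    exact K.lifts_conj hinv hc₁ hJT hc₁N hL₁ _ _ ht
  have hKJdisp : ∀ (z : Ω) (hz : z ∈ J), Disp F c₁ J z → ∀ κ ∈ KJ,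
      (κ : MulAut J) ⟨z, hz⟩ = ⟨z, hz⟩ := by
    intro z hz hD κ hκ
    let B : Subgroup (E.autGroup J) :=
      (MulAction.stabilizer (MulAut J) (⟨z, hz⟩ : J)).comap (E.autGroup J).subtype
    suffices h : KJ ≤ B from h hκ
    refine (Subgroup.closure_le _).2 fun k hk => ?_
    obtain ⟨t, ht, g, hg⟩ := Group.mem_conjugatesOfSet_iff.1 hk
    rw [SetLike.mem_coe, hR, Subgroup.mem_subgroupOf] at ht
    rw [eq_mul_inv_of_mul_eq hg.eq.symm]
    show (((g : E.autGroup J) : MulAut J) * (t : MulAut J) * ((g : E.autGroup J) : MulAut J)⁻¹)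
      ⟨z, hz⟩ = ⟨z, hz⟩
    have hD' := hD.map hc₁ hJT hz (hnearJ _ (inv_mem (g : E.autGroup J).2))
    obtain ⟨v, hv, hvt⟩ := mem_autInducedBy.1 ht
    have h1 := (hD'.extend hS hF hinv hc₁ hJc).1 v ⟨hv, mem_normalizer_of_aut hvt⟩
    have h2 : (t : MulAut J) (((g : E.autGroup J) : MulAut J)⁻¹ ⟨z, hz⟩) =
        ((g : E.autGroup J) : MulAut J)⁻¹ ⟨z, hz⟩ :=
      Subtype.ext (by rw [hvt, h1, mul_inv_cancel_right])
    rw [MulAut.mul_apply, MulAut.mul_apply, h2, MulAut.apply_inv_self]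
  -- displacements at `T` are fixed by `K`
  let A₀ : Subgroup T :=
    { carrier := {z | (∀ t : T, (t : Ω) * z = z * t) ∧ ∀ (h : (z : Ω) ∈ J), ∀ κ ∈ KJ,
        (κ : MulAut J) ⟨z, h⟩ = ⟨z, h⟩}
      one_mem' := ⟨fun t => by simp, fun h κ _ => map_one _⟩
      mul_mem' := by
        rintro a b ⟨ha, ha'⟩ ⟨hb, hb'⟩
        refine ⟨fun t => ?_, fun h κ hκ => ?_⟩
        · rw [Subgroup.coe_mul, ← mul_assoc, ha, mul_assoc, hb, mul_assoc]
        · rw [show (⟨((a * b : T) : Ω), h⟩ : J) = ⟨a, hcentre _ a.2 fun t ht => ha ⟨t, ht⟩⟩ *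
              ⟨b, hcentre _ b.2 fun t ht => hb ⟨t, ht⟩⟩ from Subtype.ext rfl, map_mul,
            ha' _ κ hκ, hb' _ κ hκ]
      inv_mem' := by
        rintro a ⟨ha, ha'⟩
        refine ⟨fun t => ((show Commute (t : Ω) a from ha t).inv_right).eq, fun h κ hκ => ?_⟩
        rw [show (⟨((a⁻¹ : T) : Ω), h⟩ : J) = ⟨a, hcentre _ a.2 fun t ht => ha ⟨t, ht⟩⟩⁻¹ from
          Subtype.ext rfl, map_inv, ha' _ κ hκ] }
  have hδ : ∀ a ∈ E.autGroup T, ∀ σ ∈ F.autGroup (adj c₁ T), Agree le_sup_left σ a →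
      ∀ d : T, ((σ (adjElt c₁ T) : adj c₁ T) : Ω) = c₁ * d → d ∈ A₀ := by
    intro a ha σ hσ hσa d hd
    have hdc : ∀ t : T, (t : Ω) * d = d * t := fun t => by
      have h1 := image_comm hc₁ le_rfl hσa t
      rw [hd, ← mul_assoc, hc₁.2 (t : Ω) t.2] at h1
      calc (t : Ω) * d = c₁⁻¹ * (c₁ * (t : Ω) * d) := by group
        _ = d * t := by rw [h1]; group
    refine ⟨hdc, fun hdJ κ hκ => ?_⟩
    obtain ⟨a', ha'E, haa'⟩ := hresE a ha
    obtain ⟨σJ, hσJ, hσJa, hσJc⟩ := hres hc₁ hσa haa' hσ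
      (by rw [hd, inv_mul_cancel_left]; exact hdJ)
    rw [hd] at hσJc
    let a'' : E.autGroup J := ⟨a', ha'E⟩
    -- fixing by elements of order prime to `p`
    let B : Subgroup (E.autGroup J) :=
      (MulAction.stabilizer (MulAut J) (⟨(d : Ω), hdJ⟩ : J)).comap (E.autGroup J).subtype
    suffices h : KJ ≤ B from h hκ
    refine le_of_sylow_coprime p R Subgroup.le_normalClosure (fun t ht => ?_) fun k hk hco => ?_
    · rw [hR, Subgroup.mem_subgroupOf] at ht
      obtain ⟨v, hv, hvt⟩ := mem_autInducedBy.1 ht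
      exact Subtype.ext ((hvt ⟨d, hdJ⟩).trans (mul_inv_eq_iff_eq_mul.2 (hdc ⟨v, hv⟩)))
    · show (k : MulAut J) ⟨d, hdJ⟩ = ⟨d, hdJ⟩
      obtain ⟨σk, hσk, hσka, hσkc⟩ := hKJlift k hk
      obtain ⟨σk', hσk', hσka', hσkc'⟩ := hKJlift (a''⁻¹ * k * a'')
        (by simpa [KJ] using (Subgroup.normalClosure_normal).conj_mem k hk a''⁻¹)
      set incl := Subgroup.inclusion (le_sup_left : J ≤ adj c₁ J)
      set dJ : J := ⟨d, hdJ⟩
      have hσJ0 : σJ (adjElt c₁ J) = adjElt c₁ J * incl dJ := Subtype.ext hσJc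
      have hσJi : σJ⁻¹ (adjElt c₁ J) = adjElt c₁ J * incl (a'⁻¹ dJ⁻¹) := by
        refine σJ.injective ?_
        rw [MulAut.apply_inv_self, map_mul, hσJ0, hσJa.apply, MulAut.apply_inv_self, map_inv,
          mul_inv_cancel_right]
      have hσki : σk⁻¹ (adjElt c₁ J) = adjElt c₁ J := by
        refine σk.injective ?_
        rw [MulAut.apply_inv_self, hσkc]
      have hη : (σJ * σk' * σJ⁻¹ * σk⁻¹) (adjElt c₁ J) =
          adjElt c₁ J * incl (dJ * ((k : MulAut J) dJ)⁻¹) := by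
        rw [MulAut.mul_apply, MulAut.mul_apply, MulAut.mul_apply, hσki, hσJi, map_mul, hσkc',
          hσka'.apply, map_mul, hσJ0, hσJa.apply, mul_assoc, ← map_mul]
        refine congrArg (fun w => adjElt c₁ J * incl w) ?_
        simp only [Subgroup.coe_mul, InvMemClass.coe_inv, MulAut.mul_apply, map_inv, a'']
        simp
      have hD : Disp F c₁ J ((dJ * ((k : MulAut J) dJ)⁻¹ : J) : Ω) := by
        refine ⟨Subtype.coe_prop _, σJ * σk' * σJ⁻¹ * σk⁻¹,
          mul_mem (mul_mem (mul_mem hσJ hσk') (inv_mem hσJ)) (inv_mem hσk), ?_, ?_⟩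
        · have h1 := ((hσJa.mul hσka').mul hσJa.inv).mul hσka.inv
          convert h1 using 1
          simp only [Subgroup.coe_mul, InvMemClass.coe_inv, a'']
          group
        · rw [hη]; rfl
      have hfix := hKJdisp _ (Subtype.coe_prop _) hD k hk
      rw [Subtype.coe_eta] at hfix
      set z := dJ * ((k : MulAut J) dJ)⁻¹ with hz
      have hk1 : (k : MulAut J) dJ = z⁻¹ * dJ := by rw [hz]; group
      have hn : ∀ n : ℕ, ((k : MulAut J) ^ n) dJ = (z⁻¹) ^ n * dJ := by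
        intro n
        induction n with
        | zero => simp
        | succ n ih =>
          rw [pow_succ', MulAut.mul_apply, ih, map_mul, map_pow (k : MulAut J), map_inv, hfix, hk1,
            pow_succ, mul_assoc]
      have h1 : (z⁻¹) ^ orderOf (k : MulAut J) = 1 := by
        have := hn (orderOf (k : MulAut J))
        rw [pow_orderOf_eq_one, MulAut.one_apply] at this
        exact right_eq_mul.1 this
      obtain ⟨i, hi⟩ := IsPGroup.iff_orderOf.1 (isPGroup_of_le hS hJS) z⁻¹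
      rw [hk1, orderOf_eq_one_iff.1 (Nat.eq_one_of_dvd_coprimes
        ((show (orderOf (k : MulAut J)).Coprime p by rwa [Subgroup.orderOf_coe]).pow_right i)
        (orderOf_dvd_of_pow_eq_one h1) hi.dvd), one_mul]
  -- averaging over `Aut_E(T)`
  set D₁ := adj c₁ T with hD₁
  have hD₁S : D₁ ≤ S := adj_le hc₁ le_rfl hTS
  haveI := finite_of_le hD₁S
  haveI : Finite (MulAut D₁) := finite_mulAut
  let Γ := D₁ ⋊[MonoidHom.id (MulAut D₁)] MulAut D₁
  haveI : Finite Γ := Finite.of_equiv _ SemidirectProduct.equivProd.symm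
  have hconj : ∀ (σ : MulAut D₁) (x : D₁), (SemidirectProduct.inr σ : Γ) * SemidirectProduct.inl x *
      (SemidirectProduct.inr σ)⁻¹ = SemidirectProduct.inl (σ x) := fun σ x => by
    have h := SemidirectProduct.inl_aut (φ := MonoidHom.id (MulAut D₁)) σ x
    rw [← map_inv]
    exact h.symm
  let incT := Subgroup.inclusion (le_sup_left : T ≤ D₁)
  let c₀ := adjElt c₁ T
  let emb : T →* Γ := SemidirectProduct.inl.comp incT
  have hemb : Function.Injective emb :=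
    SemidirectProduct.inl_injective.comp (Subgroup.inclusion_injective _)
  let M₀ : Subgroup (MulAut D₁) :=
    { carrier := {σ | σ ∈ F.autGroup D₁ ∧ (∃ a ∈ E.autGroup T, Agree le_sup_left σ a) ∧
        c₁⁻¹ * ((σ c₀ : D₁) : Ω) ∈ T}
      one_mem' := ⟨one_mem _, ⟨1, one_mem _, Agree.one⟩, by simp [c₀, adjElt]⟩
      mul_mem' := by
        rintro σ τ ⟨hσ, ⟨a, ha, hσa⟩, hσc⟩ ⟨hτ, ⟨b, hb, hτb⟩, hτc⟩
        refine ⟨mul_mem hσ hτ, ⟨a * b, mul_mem ha hb, hσa.mul hτb⟩, ?_⟩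
        have e : τ c₀ = c₀ * incT ⟨_, hτc⟩ := Subtype.ext (by simp [c₀, incT, adjElt])
        rw [MulAut.mul_apply, e, map_mul, Subgroup.coe_mul, show incT ⟨_, hτc⟩ =
          Subgroup.inclusion le_sup_left ⟨_, hτc⟩ from rfl, hσa, ← mul_assoc]
        exact mul_mem hσc (SetLike.coe_mem _)
      inv_mem' := by
        rintro σ ⟨hσ, ⟨a, ha, hσa⟩, hσc⟩
        refine ⟨inv_mem hσ, ⟨a⁻¹, inv_mem ha, hσa.inv⟩, ?_⟩
        have e : σ⁻¹ c₀ = c₀ * (incT (a⁻¹ ⟨_, hσc⟩))⁻¹ := by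
          refine σ.injective ?_
          rw [MulAut.apply_inv_self, map_mul, map_inv, show incT (a⁻¹ ⟨_, hσc⟩) =
            Subgroup.inclusion le_sup_left (a⁻¹ ⟨_, hσc⟩) from rfl, hσa.apply,
            MulAut.apply_inv_self, eq_mul_inv_iff_mul_eq]
          exact Subtype.ext (by simp [c₀, adjElt])
        rw [e]
        simp [c₀, incT, adjElt] }
  let P₀ : Subgroup (MulAut D₁) :=
    { carrier := {σ | σ ∈ M₀ ∧ ∃ a ∈ autInducedBy T T, Agree le_sup_left σ a}
      one_mem' := ⟨one_mem _, 1, one_mem _, Agree.one⟩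
      mul_mem' := fun ⟨hσ, a, ha, hσa⟩ ⟨hτ, b, hb, hτb⟩ =>
        ⟨mul_mem hσ hτ, a * b, mul_mem ha hb, hσa.mul hτb⟩
      inv_mem' := fun ⟨hσ, a, ha, hσa⟩ => ⟨inv_mem hσ, a⁻¹, inv_mem ha, hσa.inv⟩ }
  let D₀ : Subgroup T := X.subgroupOf T
  haveI : IsMulCommutative A₀ := ⟨⟨fun a b => Subtype.ext (Subtype.ext (b.2.1 a))⟩⟩
  haveI : IsMulCommutative ↥(A₀.map emb) := Subgroup.map_isMulCommutative A₀ emb
  have hact : ∀ σ ∈ M₀, ∀ a : MulAut T, Agree le_sup_left σ a → ∀ t : T,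
      (SemidirectProduct.inr σ : Γ) * emb t * (SemidirectProduct.inr σ)⁻¹ = emb (a t) := by
    intro σ _ a hσa t
    show (SemidirectProduct.inr σ : Γ) * SemidirectProduct.inl (incT t) * _ = _
    rw [hconj]
    exact congrArg SemidirectProduct.inl (hσa.apply t)
  have hA₀inv : ∀ a ∈ E.autGroup T, ∀ z ∈ A₀, a z ∈ A₀ := by
    intro a ha z hz
    refine ⟨fun t => ?_, fun h κ hκ => ?_⟩
    · obtain ⟨t', rfl⟩ := a.surjective t
      rw [← Subgroup.coe_mul, ← Subgroup.coe_mul, ← map_mul, ← map_mul]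
      exact congrArg (fun w : T => ((a w : T) : Ω)) (Subtype.ext (hz.1 t'))
    · obtain ⟨a', ha'E, haa'⟩ := hresE a ha
      have hzJ : (z : Ω) ∈ J := hcentre _ z.2 fun t ht => hz.1 ⟨t, ht⟩
      have e : a' ⟨z, hzJ⟩ = ⟨((a z : T) : Ω), h⟩ := Subtype.ext (haa' ⟨z, hzJ⟩).symm
      have hk := hz.2 hzJ ((⟨a', ha'E⟩ : E.autGroup J)⁻¹ * κ * ⟨a', ha'E⟩)
        (by simpa [KJ] using (Subgroup.normalClosure_normal).conj_mem κ hκ (⟨a', ha'E⟩ : E.autGroup J)⁻¹)
      simp only [Subgroup.coe_mul, InvMemClass.coe_inv, MulAut.mul_apply, e] at hk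
      rw [← e]
      rw [← e] at hk
      exact a'⁻¹.injective (hk.trans (MulAut.inv_apply_self J a' _).symm)
  obtain ⟨_, ⟨_, ⟨z₂, hz₂, rfl⟩, rfl⟩, -, hz₂M⟩ : ∃ a, (∃ b, b ∈ A₀.map emb ∧ b = a) ∧
      (∀ g ∈ P₀.map SemidirectProduct.inr, g ∈ M₀.map SemidirectProduct.inr →
        a⁻¹ * g * a * g⁻¹ ∈ D₀.map emb) ∧
      ∀ g ∈ M₀.map SemidirectProduct.inr, ((SemidirectProduct.inl c₀ : Γ) * a)⁻¹ * g *
        ((SemidirectProduct.inl c₀ : Γ) * a) * g⁻¹ ∈ D₀.map emb := by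
    refine (exists_avg (p := p) (M₀.map SemidirectProduct.inr) (A₀.map emb)
      (D₀.map emb) (P₀.map SemidirectProduct.inr)
      (((isPGroup_of_le hS hTS).to_subgroup A₀).map emb) (SemidirectProduct.inl c₀ : Γ)
      ?_ ?_ ?_ ?_ ?_).elim fun a ⟨ha, h1, h2⟩ => ⟨a, ⟨a, ha, rfl⟩, h1, h2⟩
    · rintro _ ⟨σ, hσ, rfl⟩ _ ⟨d, hd, rfl⟩
      obtain ⟨a, ha, hσa⟩ := hσ.2.1
      rw [hact σ hσ a hσa, hfocfix T le_rfl a ha d hd]
    · rintro _ ⟨σ, hσ, rfl⟩ _ ⟨z, hz, rfl⟩
      obtain ⟨a, ha, hσa⟩ := hσ.2.1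
      rw [hact σ hσ a hσa]
      exact ⟨_, hA₀inv a ha z hz, rfl⟩
    · rintro _ ⟨σ, hσ, rfl⟩
      obtain ⟨a, ha, hσa⟩ := hσ.2.1
      refine ⟨⟨_, hσ.2.2⟩, hδ a ha σ hσ.1 hσa _ (by simp [c₀]), ?_⟩
      rw [mul_assoc, mul_assoc, ← mul_assoc (SemidirectProduct.inr σ : Γ), hconj, ← map_inv,
        ← map_mul]
      exact congrArg SemidirectProduct.inl (Subtype.ext rfl)
    · rw [Subgroup.relIndex_map_map_of_injective _ _ SemidirectProduct.inr_injective]
      obtain ⟨U, hU⟩ := (good_of_fullyNormalized p hT hEs hTn).1.2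
      have hex : ∀ σ : M₀, ∃ a : E.autGroup T, Agree le_sup_left (σ : MulAut D₁) (a : MulAut T) :=
        fun σ => by obtain ⟨a, ha, h⟩ := σ.2.2.1; exact ⟨⟨a, ha⟩, h⟩
      choose f hf using hex
      have hext' : ∀ {σ : MulAut D₁} {a b : MulAut T}, Agree le_sup_left σ a →
          Agree le_sup_left σ b → a = b := fun ha hb =>
        MulEquiv.ext fun x => Subtype.ext ((ha x).symm.trans (hb x))
      let fh : M₀ →* E.autGroup T := MonoidHom.mk' f fun σ τ =>
        Subtype.ext (hext' (hf (σ * τ)) ((hf σ).mul (hf τ)))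
      haveI : (U : Subgroup (E.autGroup T)).Normal := by
        rw [hU, ← inn_eq_autInducedBy]; exact inn_subgroupOf_normal T
      have heq : P₀.subgroupOf M₀ = (U : Subgroup (E.autGroup T)).comap fh := by
        ext σ
        rw [Subgroup.mem_comap, hU, Subgroup.mem_subgroupOf, Subgroup.mem_subgroupOf]
        constructor
        · rintro ⟨-, a, ha, hσa⟩
          exact (hext' (hf σ) hσa) ▸ ha
        · exact fun h => ⟨σ.2, _, h, hf σ⟩
      intro hdvd
      refine U.not_dvd_index (hdvd.trans ?_)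
      rw [show P₀.relIndex M₀ = (P₀.subgroupOf M₀).index from rfl, heq, Subgroup.index_comap]
      exact Subgroup.relIndex_dvd_index_of_normal _ _
    · rintro _ ⟨σ, ⟨hσM, a, ha, hσa⟩, rfl⟩ -
      obtain ⟨hσ, -, hσc⟩ := hσM
      obtain ⟨v, hv, hva⟩ := mem_autInducedBy.1 ha
      have hvD : v ∈ D₁ := Subgroup.mem_sup_left hv
      set cv : MulAut D₁ := MulAut.conj ⟨v, hvD⟩
      have hcv : cv ∈ F.autGroup D₁ :=
        inn_le_autGroup hD₁S ⟨⟨v, hvD⟩, rfl⟩
      have hcva : Agree le_sup_left cv a := fun x => (hva x).symm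
      have hz : Disp F c₁ T (c₁⁻¹ * ((σ c₀ : D₁) : Ω)) := by
        refine ⟨hσc, σ * cv⁻¹, mul_mem hσ (inv_mem hcv), by simpa using hσa.mul hcva.inv, ?_⟩
        have h1 : cv⁻¹ c₀ = c₀ := by
          refine cv.injective ?_
          rw [MulAut.apply_inv_self]
          exact Subtype.ext (mul_inv_eq_iff_eq_mul.2 (hc₁.2 v hv)).symm
        rw [MulAut.mul_apply, h1, mul_inv_cancel_left]
      refine ⟨⟨_, hσc⟩, hz.mem_focal hTS hc₁, ?_⟩
      rw [mul_assoc, mul_assoc, ← mul_assoc (SemidirectProduct.inr σ : Γ), hconj, ← map_inv,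
        ← map_mul]
      exact congrArg SemidirectProduct.inl (Subtype.ext rfl)
  set c₂ := c₁ * (z₂ : Ω) with hc₂def
  have hz₂J : (z₂ : Ω) ∈ J := hcentre _ z₂.2 fun t ht => hz₂.1 ⟨t, ht⟩
  have hc₂ : c₂ ∈ centralizerIn S T :=
    mul_mem hc₁ (mem_centralizerIn.2 ⟨hTS z₂.2, fun t ht => hz₂.1 ⟨t, ht⟩⟩)
  -- `T`
  have hkey : ∀ b ∈ E.autGroup T, ∃ σ ∈ F.autGroup (adj c₂ T), Agree le_sup_left σ b ∧
      c₂⁻¹ * ((σ (adjElt c₂ T) : adj c₂ T) : Ω) ∈ X := by
    intro b hb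
    obtain ⟨σ, hσ, hσb, hσc⟩ := hnearT hc₁ b hb
    have hM : σ ∈ M₀ := ⟨hσ, ⟨b, hb, hσb⟩, hσc⟩
    obtain ⟨d, hd, hde⟩ := hz₂M _ ⟨σ, hM, rfl⟩
    have he : D₁ = adj c₂ T := by
      refine le_antisymm (sup_le le_sup_left (Subgroup.zpowers_le.2 ?_))
        (sup_le le_sup_left (Subgroup.zpowers_le.2 ?_))
      · rw [show c₁ = c₂ * (z₂ : Ω)⁻¹ by rw [hc₂def]; group]
        exact mul_mem (Subgroup.mem_sup_right (Subgroup.mem_zpowers _))
          (Subgroup.mem_sup_left (inv_mem z₂.2))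
      · exact mul_mem (Subgroup.mem_sup_right (Subgroup.mem_zpowers _))
          (Subgroup.mem_sup_left z₂.2)
    haveI := finite_of_le (adj_le hc₂ le_rfl hTS)
    obtain ⟨τ, hτ⟩ := exists_agree he.ge σ fun x _ => he.le (σ x).2
    refine ⟨τ, hτ.mem hD₁S hσ, fun x => ?_, ?_⟩
    · rw [← hτ (Subgroup.inclusion le_sup_left x)]
      exact hσb x
    · have h1 : c₂⁻¹ * ((τ (adjElt c₂ T) : adj c₂ T) : Ω) = d := by
        rw [← hτ (adjElt c₂ T)]
        rw [show (Subgroup.inclusion he.ge (adjElt c₂ T) : D₁) = c₀ * incT z₂ from Subtype.ext rfl]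
        rw [show (SemidirectProduct.inl c₀ : Γ) * emb z₂ = SemidirectProduct.inl (c₀ * incT z₂) from
          (map_mul _ _ _).symm, mul_assoc, mul_assoc,
          ← mul_assoc (SemidirectProduct.inr σ : Γ), hconj, ← map_inv, ← map_mul] at hde
        exact (congrArg Subtype.val (SemidirectProduct.inl_injective hde)).symm
      rw [h1]; exact hd
  have hliftT : ∀ a ∈ E.autGroup T, Lifts F c₂ a := by
    intro a ha
    obtain ⟨U, hU⟩ := (good_of_fullyNormalized p hT hEs hTn).1.2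
    let B : Subgroup (E.autGroup T) :=
      { carrier := {a | Lifts F c₂ (a : MulAut T)}
        one_mem' := ⟨1, one_mem _, Agree.one, rfl⟩
        mul_mem' := by
          rintro a b ⟨σ, hσ, hσa, hσc⟩ ⟨τ, hτ, hτb, hτc⟩
          exact ⟨σ * τ, mul_mem hσ hτ, hσa.mul hτb, by rw [MulAut.mul_apply, hτc, hσc]⟩
        inv_mem' := by
          rintro a ⟨σ, hσ, hσa, hσc⟩
          refine ⟨σ⁻¹, inv_mem hσ, hσa.inv, σ.injective ?_⟩
          rw [MulAut.apply_inv_self, hσc] }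
    suffices h : (⊤ : Subgroup (E.autGroup T)) ≤ B from h (Subgroup.mem_top ⟨a, ha⟩)
    refine le_of_sylow_coprime p U le_top (fun t ht => ?_) fun b _ hco => ?_
    · rw [hU, Subgroup.mem_subgroupOf] at ht
      obtain ⟨v, hv, hvt⟩ := mem_autInducedBy.1 ht
      have hvD : v ∈ adj c₂ T := Subgroup.mem_sup_left hv
      exact ⟨MulAut.conj ⟨v, hvD⟩, inn_le_autGroup (adj_le hc₂ le_rfl hTS) ⟨⟨v, hvD⟩, rfl⟩,
        fun x => (hvt x).symm, Subtype.ext (mul_inv_eq_iff_eq_mul.2 (hc₂.2 v hv))⟩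
    · obtain ⟨σ, hσ, hσb, hσc⟩ := hkey _ b.2
      obtain ⟨n, hn, hnb⟩ := exists_coprime_lift (p := p) (adj_le hc₂ le_rfl hTS) hσb
        (by rwa [Subgroup.orderOf_coe])
      have hd : ∀ m : ℕ, c₂⁻¹ * (((σ ^ m) (adjElt c₂ T) : adj c₂ T) : Ω) ∈ X := by
        intro m
        induction m with
        | zero => simp [adjElt]
        | succ m ih =>
          have e : (σ ^ m) (adjElt c₂ T) =
              adjElt c₂ T * Subgroup.inclusion le_sup_left ⟨_, hfoc ih⟩ :=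
            Subtype.ext (by simp [adjElt])
          rw [pow_succ', MulAut.mul_apply, e, map_mul, Subgroup.coe_mul, hσb,
            hfocfix T le_rfl _ b.2 _ ih, ← mul_assoc]
          exact mul_mem hσc ih
      exact ⟨σ ^ n, pow_mem hσ n, hnb, fix_of_shift hT hnb hn
        (z := ⟨_, hfoc (hd n)⟩) (hfocfix T le_rfl _ b.2 _ (hd n)) (by simp)⟩
  have hGT : Good F E c₂ T :=
    ⟨hliftT, fun z hz hD a ha => hfocfix T le_rfl a ha _ (hD.mem_focal hTS hc₂)⟩
  -- `J`
  have hKJ₂ : ∀ κ ∈ KJ, Lifts F c₂ (κ : MulAut J) := by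
    intro κ hκ
    obtain ⟨σ, hσ, hσa, hσc⟩ := hKJlift κ hκ
    have he : adj c₁ J = adj c₂ J := by
      refine le_antisymm (sup_le le_sup_left (Subgroup.zpowers_le.2 ?_))
        (sup_le le_sup_left (Subgroup.zpowers_le.2 ?_))
      · rw [show c₁ = c₂ * (z₂ : Ω)⁻¹ by rw [hc₂def]; group]
        exact mul_mem (Subgroup.mem_sup_right (Subgroup.mem_zpowers _))
          (Subgroup.mem_sup_left (inv_mem hz₂J))
      · exact mul_mem (Subgroup.mem_sup_right (Subgroup.mem_zpowers _))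
          (Subgroup.mem_sup_left hz₂J)
    haveI := finite_of_le (adj_le hc₂ hJT hTS)
    obtain ⟨τ, hτ⟩ := exists_agree he.ge σ fun x _ => he.le (σ x).2
    refine ⟨τ, hτ.mem (adj_le hc₁ hJT hTS) hσ, fun x => ?_, Subtype.ext ?_⟩
    · rw [← hτ (Subgroup.inclusion le_sup_left x)]
      exact hσa x
    · rw [← hτ (adjElt c₂ J),
        show (Subgroup.inclusion he.ge (adjElt c₂ J) : adj c₁ J) = adjElt c₁ J *
          Subgroup.inclusion le_sup_left ⟨(z₂ : Ω), hz₂J⟩ from Subtype.ext rfl,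
        map_mul, hσc, Subgroup.coe_mul, hσa, hz₂.2 hz₂J κ hκ]
      rfl
  have hliftJ : ∀ a ∈ E.autGroup J, Lifts F c₂ a := by
    intro a ha
    let B : Subgroup (E.autGroup J) :=
      { carrier := {a | Lifts F c₂ (a : MulAut J)}
        one_mem' := ⟨1, one_mem _, Agree.one, rfl⟩
        mul_mem' := by
          rintro a b ⟨σ, hσ, hσa, hσc⟩ ⟨τ, hτ, hτb, hτc⟩
          exact ⟨σ * τ, mul_mem hσ hτ, hσa.mul hτb, by rw [MulAut.mul_apply, hτc, hσc]⟩
        inv_mem' := by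
          rintro a ⟨σ, hσ, hσa, hσc⟩
          refine ⟨σ⁻¹, inv_mem hσ, hσa.inv, σ.injective ?_⟩
          rw [MulAut.apply_inv_self, hσc] }
    refine mem_of_normalizer hS hEs hinv hJT hJn B (fun γ t ht => hKJ₂ _ ?_) (fun b hb hco => ?_)
      ⟨a, ha⟩
    · refine Subgroup.normalClosure_normal.conj_mem _ (Subgroup.le_normalClosure ?_) _
      show t ∈ (R : Subgroup (E.autGroup J))
      rw [hR, Subgroup.mem_subgroupOf]
      exact ht
    · obtain ⟨b', hb', -, hbb'⟩ := exists_ext_normalizer hS hEs hinv hJc hJn hb hco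
      haveI := finite_of_le (normalizerIn_le_S (S := T) J)
      obtain ⟨B', hB'⟩ := exists_agree hNJ.ge b' fun x _ => normalizerIn_le_S J (b' x).2
      have hB'E : B' ∈ E.autGroup T := hB'.mem (F := E) (normalizerIn_le_S J) hb'
      have hB'b : Agree hJT B' (b : MulAut J) := fun x =>
        (hB' (Subgroup.inclusion hJT x)).symm.trans (hbb' x)
      obtain ⟨σ, hσ, hσa, hσc⟩ := hliftT B' hB'E
      obtain ⟨τ, hτ, hτa, hτc⟩ := hres hc₂ hσa hB'b hσ (by rw [hσc]; simp [adjElt])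
      exact ⟨τ, hτ, hτa, Subtype.ext (by rw [hτc, hσc]; rfl)⟩
  refine ⟨(z₁ : Ω) * z₂, mul_mem hz₁T z₂.2, ?_⟩
  rw [show c * ((z₁ : Ω) * z₂) = c₂ by rw [hc₂def, hc₁def, mul_assoc]]
  refine ⟨hc₂, hGT, hliftJ, fixDisp_of hS hF hEs hinv hc₂ hJc hJn hliftJ ?_⟩
  rw [hNJ]
  exact hGT

end CfsgLib.NormalCentral
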