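import Cfsg.Agent.Fusion.CentralControlApps
import Cfsg.Agent.AutDiv.Thompson
import Cfsg.Agent.Solvable.Basics

/-!
Group lemmas behind control of the centralizer of a normal subsystem.
-/

set_option autoImplicit false
set_option linter.style.haveILetI false

open Cfsg CfsgLib.Fusion
open scoped IsMulCommutative

namespace CfsgLib.NormalCentral

universe u

variable {G : Type u} [Group G]

theorem thompsonAOf_map {H : Type*} [Group H] (f : G →* H) (hf : Function.Injective f)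
    (U : Subgroup G) : (thompsonSubgroupAOf U).map f = thompsonSubgroupAOf (U.map f) := by
  have hinj : Function.Injective (f.comp U.subtype) := hf.comp U.subtype_injective
  have h := thompsonAOf_range (f.comp U.subtype) hinj
  rw [MonoidHom.range_comp, U.range_subtype] at h
  rw [h]
  unfold thompsonSubgroupAOf
  rw [Subgroup.map_map]

theorem thompsonAOf_le (U : Subgroup G) : thompsonSubgroupAOf U ≤ U := Subgroup.map_subtype_le _

theorem center_le_thompsonAOf (U : Subgroup G) [Finite U] :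
    U ⊓ Subgroup.centralizer (U : Set G) ≤ thompsonSubgroupAOf U := fun x hx =>
  ⟨⟨x, hx.1⟩, center_le_thompsonA (Subgroup.mem_center_iff.2 fun s =>
    Subtype.ext (hx.2 s s.2)), rfl⟩

theorem isMulCommutative_subgroupOf {B W : Subgroup G} (hB : IsMulCommutative B) :
    IsMulCommutative (B.subgroupOf W) :=
  ⟨⟨fun a b => Subtype.ext (Subtype.ext (by
    have h := hB.is_comm.comm (⟨((a : W) : G), a.2⟩ : B) ⟨((b : W) : G), b.2⟩
    exact congrArg (fun q : B => (q : G)) h))⟩⟩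

/-- The abelian Thompson subgroup of a product with a commuting abelian subgroup. -/
theorem thompsonAOf_sup_central [Finite G] (V Z : Subgroup G) [IsMulCommutative Z]
    (hVZ : Z ≤ Subgroup.centralizer (V : Set G)) :
    thompsonSubgroupAOf (V ⊔ Z) = thompsonSubgroupAOf V ⊔ Z := by
  have hZW : Z ≤ V ⊔ Z := le_sup_right
  have hVW : V ≤ V ⊔ Z := le_sup_left
  have hZn : Z ≤ Subgroup.normalizer (V : Set G) :=
    hVZ.trans (CfsgLib.Fusion.centralizer_le_normalizer' V)
  have hmem : ∀ w ∈ V ⊔ Z, ∃ v ∈ V, ∃ z ∈ Z, v * z = w := fun w hw => by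
    rw [← SetLike.mem_coe, Subgroup.coe_mul_of_right_le_normalizer_left V Z hZn] at hw
    exact hw
  have hZc : Z ≤ Subgroup.centralizer ((V ⊔ Z : Subgroup G) : Set G) := fun z hz => by
    refine Subgroup.mem_centralizer_iff.2 fun w hw => ?_
    obtain ⟨v, hv, z', hz', rfl⟩ := hmem w hw
    have h1 : Commute v z := hVZ hz v hv
    have h2 : Commute z' z := congrArg Subtype.val
      (IsMulCommutative.is_comm.comm (⟨z', hz'⟩ : Z) ⟨z, hz⟩)
    exact (h1.mul_left h2).eq
  -- comparison of the orders of abelian subgroups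
  have hcard : ∀ B : Subgroup G, B ≤ V → V ⊓ Z ≤ B →
      Nat.card ↥(B ⊔ Z) = Nat.card B * (V ⊓ Z).relIndex Z := by
    intro B hB hle
    have he : B ⊓ Z = V ⊓ Z := le_antisymm (inf_le_inf_right _ hB) (le_inf hle inf_le_right)
    have hn : B ⊔ Z ≤ Subgroup.normalizer (B : Set G) :=
      sup_le Subgroup.le_normalizer fun z hz =>
        CfsgLib.Fusion.centralizer_le_normalizer' B (Subgroup.centralizer_le hB (hVZ hz))
    haveI : (B.subgroupOf (B ⊔ Z)).Normal :=
      (Subgroup.normal_subgroupOf_iff_le_normalizer le_sup_left).2 hn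
    have h3 : B.relIndex (B ⊔ Z) = B.relIndex Z := by
      rw [← Subgroup.relIndex_subgroupOf (H := B) (le_sup_right : Z ≤ B ⊔ Z),
        ← Subgroup.relIndex_sup_left (K := B.subgroupOf (B ⊔ Z)) (H := Z.subgroupOf (B ⊔ Z)),
        ← Subgroup.subgroupOf_sup le_sup_left le_sup_right, Subgroup.subgroupOf_self,
        Subgroup.relIndex_top_right]
      rfl
    rw [← Subgroup.card_mul_index (B.subgroupOf (B ⊔ Z)),
      show (B.subgroupOf (B ⊔ Z)).index = B.relIndex (B ⊔ Z) from rfl, h3,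
      Nat.card_congr (Subgroup.subgroupOfEquivOfLe (le_sup_left : B ≤ B ⊔ Z)).toEquiv,
      ← Subgroup.inf_relIndex_right, he]
  have hiff : ∀ B : Subgroup V, B ∈ maxAbelianSubgroups V →
      V ⊓ Z ≤ B.map V.subtype := by
    intro B hB x hx
    haveI := hB.1
    have hc : IsMulCommutative (Subgroup.closure (insert (⟨x, hx.1⟩ : V) (B : Set V))) := by
      refine Subgroup.isMulCommutative_closure ?_
      rintro a (rfl | ha) b (rfl | hb)
      · rfl
      · exact Subtype.ext (hVZ hx.2 b b.2).symm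
      · exact Subtype.ext (hVZ hx.2 a a.2)
      · exact congrArg Subtype.val (hB.1.is_comm.comm ⟨a, ha⟩ ⟨b, hb⟩)
    have hle : B ≤ Subgroup.closure (insert (⟨x, hx.1⟩ : V) (B : Set V)) :=
      fun a ha => Subgroup.subset_closure (Set.mem_insert_of_mem _ ha)
    have := Subgroup.eq_of_le_of_card_ge hle (hB.2 _ hc)
    exact ⟨⟨x, hx.1⟩, this ▸ Subgroup.subset_closure (Set.mem_insert _ _), rfl⟩
  -- abelian subgroups
  have hsupab : ∀ B : Subgroup G, IsMulCommutative B → B ≤ V → IsMulCommutative ↥(B ⊔ Z) := by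
    intro B hB hBV
    rw [← Subgroup.closure_eq B, ← Subgroup.closure_eq Z, ← Subgroup.closure_union]
    refine Subgroup.isMulCommutative_closure ?_
    rintro a (ha | ha) b (hb | hb)
    · exact congrArg Subtype.val (hB.is_comm.comm ⟨a, ha⟩ ⟨b, hb⟩)
    · exact hVZ hb a (hBV ha)
    · exact (hVZ ha b (hBV hb)).symm
    · exact congrArg Subtype.val (IsMulCommutative.is_comm.comm (⟨a, ha⟩ : Z) ⟨b, hb⟩)
  obtain ⟨A₀, hA₀, hmax⟩ := Set.exists_max_image {A : Subgroup V | IsMulCommutative A}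
    (fun A => Nat.card A) (Set.toFinite _) ⟨⊥, show IsMulCommutative (⊥ : Subgroup V) from
      ⟨⟨fun a b => Subsingleton.elim _ _⟩⟩⟩
  have hA₀m : A₀ ∈ maxAbelianSubgroups V := ⟨hA₀, fun B hB => hmax B hB⟩
  have hr : 0 < (V ⊓ Z).relIndex Z := Nat.pos_of_ne_zero (Subgroup.index_ne_zero_of_finite)
  have hcv : ∀ B : Subgroup V, Nat.card ↥(B.map V.subtype) = Nat.card B := fun B =>
    (Nat.card_congr (B.equivMapOfInjective _ V.subtype_injective).toEquiv).symm
  -- the maximal abelian subgroups of `V ⊔ Z`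
  have hA : ∀ A : Subgroup ↥(V ⊔ Z), A ∈ maxAbelianSubgroups ↥(V ⊔ Z) →
      ∃ B ∈ maxAbelianSubgroups V, A.map (V ⊔ Z).subtype = B.map V.subtype ⊔ Z := by
    intro A hA
    haveI := hA.1
    have hZA : Z.subgroupOf (V ⊔ Z) ≤ A := by
      intro z hz
      have hc : IsMulCommutative (Subgroup.closure (insert z (A : Set ↥(V ⊔ Z)))) := by
        refine Subgroup.isMulCommutative_closure ?_
        rintro a (rfl | ha) b (rfl | hb)
        · rfl
        · exact Subtype.ext (hZc hz b b.2).symm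
        · exact Subtype.ext (hZc hz a a.2)
        · exact congrArg Subtype.val (hA.1.is_comm.comm ⟨a, ha⟩ ⟨b, hb⟩)
      have hle : A ≤ Subgroup.closure (insert z (A : Set ↥(V ⊔ Z))) :=
        fun a ha => Subgroup.subset_closure (Set.mem_insert_of_mem _ ha)
      exact (Subgroup.eq_of_le_of_card_ge hle (hA.2 _ hc)) ▸
        Subgroup.subset_closure (Set.mem_insert _ _)
    let B : Subgroup V := (A.map (V ⊔ Z).subtype).subgroupOf V
    have hBc : IsMulCommutative B := ⟨⟨fun a b => Subtype.ext (Subtype.ext (by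
      obtain ⟨a', ha', hae⟩ := a.2
      obtain ⟨b', hb', hbe⟩ := b.2
      change ((a : V) : G) * ((b : V) : G) = ((b : V) : G) * ((a : V) : G)
      have h := congrArg (fun q : A => ((q : ↥(V ⊔ Z)) : G))
        (hA.1.is_comm.comm ⟨a', ha'⟩ ⟨b', hb'⟩)
      simp only [Subgroup.coe_mul] at h
      rw [← show ((a' : ↥(V ⊔ Z)) : G) = ((a : V) : G) from hae,
        ← show ((b' : ↥(V ⊔ Z)) : G) = ((b : V) : G) from hbe]
      exact h))⟩⟩
    have heq : A.map (V ⊔ Z).subtype = B.map V.subtype ⊔ Z := by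
      refine le_antisymm ?_ (sup_le ?_ fun z hz => ⟨⟨z, hZW hz⟩, hZA hz, rfl⟩)
      · rintro _ ⟨⟨w, hw⟩, hwA, rfl⟩
        obtain ⟨v, hv, z, hz, rfl⟩ := hmem w hw
        refine mul_mem (Subgroup.mem_sup_left ⟨⟨v, hv⟩, ?_, rfl⟩) (Subgroup.mem_sup_right hz)
        refine ⟨⟨v, hVW hv⟩, ?_, rfl⟩
        have h2 : (⟨v, hVW hv⟩ : ↥(V ⊔ Z)) = ⟨v * z, hw⟩ * ⟨z, hZW hz⟩⁻¹ := Subtype.ext (by simp)
        rw [SetLike.mem_coe, h2]
        exact mul_mem hwA (inv_mem (hZA (show (⟨z, hZW hz⟩ : ↥(V ⊔ Z)) ∈ Z.subgroupOf _ from hz)))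
      · rintro _ ⟨v, hv, rfl⟩
        exact hv
    refine ⟨B, ⟨hBc, fun B' hB' => ?_⟩, heq⟩
    have hBZ : V ⊓ Z ≤ B.map V.subtype := fun x hx =>
      ⟨⟨x, hx.1⟩, ⟨⟨x, hZW hx.2⟩, hZA hx.2, rfl⟩, rfl⟩
    haveI : IsMulCommutative A₀ := hA₀
    have hA₀' := hsupab _ (Subgroup.map_isMulCommutative A₀ V.subtype) (Subgroup.map_subtype_le _)
    have h1 : Nat.card ↥(A₀.map V.subtype ⊔ Z) ≤ Nat.card ↥(A.map (V ⊔ Z).subtype) := by
      have hle : A₀.map V.subtype ⊔ Z ≤ V ⊔ Z := sup_le_sup_right (Subgroup.map_subtype_le _) _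
      haveI := hA₀'
      have h := hA.2 ((A₀.map V.subtype ⊔ Z).subgroupOf (V ⊔ Z))
        (isMulCommutative_subgroupOf hA₀')
      rwa [Nat.card_congr (Subgroup.subgroupOfEquivOfLe hle).toEquiv,
        Nat.card_congr (A.equivMapOfInjective _ (V ⊔ Z).subtype_injective).toEquiv] at h
    rw [heq, hcard _ (Subgroup.map_subtype_le _) hBZ,
      hcard _ (Subgroup.map_subtype_le _) (hiff A₀ hA₀m), hcv, hcv] at h1
    exact (hmax B' hB').trans (Nat.le_of_mul_le_mul_right h1 hr)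
  refine le_antisymm ?_ (sup_le ?_ ?_)
  · refine Subgroup.map_le_iff_le_comap.2 (sSup_le fun A hA' => ?_)
    obtain ⟨B, hB, he⟩ := hA A hA'
    refine Subgroup.map_le_iff_le_comap.1 (he.le.trans (sup_le_sup_right ?_ Z))
    exact Subgroup.map_mono (le_sSup hB)
  · refine Subgroup.map_le_iff_le_comap.2 (sSup_le fun B hB => ?_)
    refine Subgroup.map_le_iff_le_comap.1 ?_
    haveI := hB.1
    have hBab := hsupab _ (Subgroup.map_isMulCommutative B V.subtype) (Subgroup.map_subtype_le _)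
    have hle : B.map V.subtype ⊔ Z ≤ V ⊔ Z := sup_le_sup_right (Subgroup.map_subtype_le _) _
    have hmx : (B.map V.subtype ⊔ Z).subgroupOf (V ⊔ Z) ∈ maxAbelianSubgroups ↥(V ⊔ Z) := by
      refine ⟨isMulCommutative_subgroupOf hBab,
        fun A hA' => ?_⟩
      obtain ⟨A₁, hA₁, hA₁max⟩ := Set.exists_max_image
        {A : Subgroup ↥(V ⊔ Z) | IsMulCommutative A} (fun A => Nat.card A) (Set.toFinite _)
        ⟨A, hA'⟩
      obtain ⟨B₁, hB₁, he₁⟩ := hA A₁ ⟨hA₁, fun C hC => hA₁max C hC⟩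
      refine (hA₁max A hA').trans ?_
      rw [Nat.card_congr (Subgroup.subgroupOfEquivOfLe hle).toEquiv,
        Nat.card_congr (A₁.equivMapOfInjective _ (V ⊔ Z).subtype_injective).toEquiv, he₁,
        hcard _ (Subgroup.map_subtype_le _) (hiff B hB),
        hcard _ (Subgroup.map_subtype_le _) (hiff B₁ hB₁), hcv, hcv]
      exact Nat.mul_le_mul_right _ (hB.2 B₁ hB₁.1)
    refine le_trans ?_ (Subgroup.map_mono (le_sSup hmx))
    rw [Subgroup.map_subgroupOf_eq_of_le hle]
    exact le_sup_left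
  · intro z hz
    exact ⟨⟨z, hZW hz⟩, center_le_thompsonA (Subgroup.mem_center_iff.2 fun w =>
      Subtype.ext (hZc hz w w.2)), rfl⟩

/-- A shift fixed by an element of order prime to `p` is trivial. -/
theorem eq_one_of_shift {p : ℕ} [Fact p.Prime] {g x d : G} (hco : (orderOf g).Coprime p)
    (hd : g * d * g⁻¹ = d) (h : g * x * g⁻¹ = x * d) {A : Subgroup G} (hA : IsPGroup p A)
    (hdA : d ∈ A) : d = 1 := by
  have hn : ∀ n : ℕ, g ^ n * x * (g ^ n)⁻¹ = x * d ^ n := by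
    intro n
    induction n with
    | zero => simp
    | succ n ih =>
      calc g ^ (n + 1) * x * (g ^ (n + 1))⁻¹ = g * (g ^ n * x * (g ^ n)⁻¹) * g⁻¹ := by
            rw [pow_succ']; group
        _ = (g * x * g⁻¹) * (g * d ^ n * g⁻¹) := by rw [ih]; group
        _ = x * d * d ^ n := by rw [h, ← conj_pow, hd]
        _ = x * d ^ (n + 1) := by rw [mul_assoc, pow_succ']
  have h1 := hn (orderOf g)
  rw [pow_orderOf_eq_one, one_mul, inv_one, mul_one] at h1
  obtain ⟨j, hj⟩ := IsPGroup.iff_orderOf.1 hA ⟨d, hdA⟩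
  rw [← Subgroup.orderOf_coe] at hj
  exact orderOf_eq_one_iff.1 (Nat.eq_one_of_dvd_coprimes (hco.pow_right j)
    (orderOf_dvd_of_pow_eq_one (left_eq_mul.1 h1)) hj.dvd)

/-- Averaging a displacement over the cosets of a subgroup of index prime to `p`. -/
theorem exists_avg [Finite G] {p : ℕ} [Fact p.Prime] (M A D P₀ : Subgroup G) [IsMulCommutative A]
    (hAp : IsPGroup p A) (c : G) (hD : ∀ g ∈ M, ∀ d ∈ D, g * d * g⁻¹ = d)
    (hA : ∀ g ∈ M, ∀ a ∈ A, g * a * g⁻¹ ∈ A) (hc : ∀ g ∈ M, c⁻¹ * g * c * g⁻¹ ∈ A)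
    (hi : ¬ p ∣ P₀.relIndex M) (h₀ : ∀ g ∈ P₀, g ∈ M → c⁻¹ * g * c * g⁻¹ ∈ D) :
    ∃ a ∈ A, (∀ g ∈ P₀, g ∈ M → a⁻¹ * g * a * g⁻¹ ∈ D) ∧
      ∀ g ∈ M, (c * a)⁻¹ * g * (c * a) * g⁻¹ ∈ D := by
  classical
  letI : CommGroup A := IsMulCommutative.instCommGroup
  have := Fintype.ofFinite (M ⧸ P₀.subgroupOf M)
  let δ : M → A := fun g => ⟨c⁻¹ * g * c * (g : G)⁻¹, hc g g.2⟩
  let ρ : M → A →* A := fun g =>
    { toFun := fun a => ⟨g * a * (g : G)⁻¹, hA g g.2 a a.2⟩
      map_one' := Subtype.ext (by simp)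
      map_mul' := fun a b => Subtype.ext (by simp [mul_assoc]) }
  let q := QuotientGroup.mk' (D.subgroupOf A)
  have hq : ∀ a : A, q a = 1 ↔ (a : G) ∈ D := fun a => (QuotientGroup.eq_one_iff a).trans Iff.rfl
  have hδ : ∀ g h : M, δ (g * h) = δ g * ρ g (δ h) := fun g h => Subtype.ext (by
    simp only [δ, ρ, Subgroup.coe_mul, MonoidHom.coe_mk, OneHom.coe_mk]; group)
  let rep : M ⧸ P₀.subgroupOf M → M := Quotient.out
  have hrep : ∀ (h : M) (x : M ⧸ P₀.subgroupOf M),
      q (δ (rep (h • x))) = q (δ h) * q (ρ h (δ (rep x))) := by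
    intro h x
    obtain ⟨s, hs⟩ : ∃ s ∈ P₀.subgroupOf M, rep (h • x) * s = h * rep x := by
      refine ⟨(rep (h • x))⁻¹ * (h * rep x), QuotientGroup.eq.1 ?_, mul_inv_cancel_left _ _⟩
      conv_lhs => rw [show ((rep (h • x) : M) : M ⧸ P₀.subgroupOf M) = h • x from
        QuotientGroup.out_eq' _, show x = ((rep x : M) : M ⧸ P₀.subgroupOf M) from
        (QuotientGroup.out_eq' x).symm]
      rfl
    have h1 : q (ρ (rep (h • x)) (δ s)) = 1 := by
      refine (hq _).2 ?_
      show (rep (h • x) : G) * (c⁻¹ * s * c * (s : G)⁻¹) * (rep (h • x) : G)⁻¹ ∈ D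
      rw [hD _ (rep (h • x)).2 _ (h₀ s hs.1 s.2)]
      exact h₀ s hs.1 s.2
    rw [← map_mul q, ← hδ, ← hs.2, hδ, map_mul, h1, mul_one]
  let a₀ : A := ∏ x, δ (rep x)
  set n := Fintype.card (M ⧸ P₀.subgroupOf M) with hn
  have hsum : ∀ h : M, q a₀ = q (δ h) ^ n * q (ρ h a₀) := by
    intro h
    rw [map_prod, map_prod]
    calc ∏ x, q (δ (rep x)) = ∏ x, q (δ (rep (h • x))) :=
          (Equiv.prod_comp (MulAction.toPerm h) fun x => q (δ (rep x))).symm
      _ = ∏ x, q (δ h) * q (ρ h (δ (rep x))) := Finset.prod_congr rfl fun x _ => hrep h x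
      _ = _ := by rw [Finset.prod_mul_distrib, Finset.prod_const, Finset.card_univ, map_prod]
  obtain ⟨j, hj⟩ := IsPGroup.iff_card.1 hAp
  have hnp : n.Coprime (Nat.card A) := by
    rw [hj, hn, ← Nat.card_eq_fintype_card]
    exact (((Fact.out : p.Prime).coprime_iff_not_dvd.2 hi).pow_left j).symm
  obtain ⟨a, ha⟩ := (powCoprime hnp.symm).surjective a₀
  change a ^ n = a₀ at ha
  have key : ∀ h : M, q a = q (δ h) * q (ρ h a) := by
    intro h
    have h1 := hsum h
    rw [← ha, map_pow (ρ h), map_pow, map_pow, ← mul_pow, ← map_mul, ← map_pow, ← map_pow] at h1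
    have hQp : IsPGroup p (A ⧸ D.subgroupOf A) := hAp.to_quotient _
    obtain ⟨i, hi'⟩ := IsPGroup.iff_card.1 hQp
    have hnq : (Nat.card (A ⧸ D.subgroupOf A)).Coprime n := by
      rw [hi', hn, ← Nat.card_eq_fintype_card]
      exact ((Fact.out : p.Prime).coprime_iff_not_dvd.2 hi).pow_left i
    rw [map_pow, map_pow] at h1
    rw [← map_mul]
    exact (powCoprime hnq).injective h1
  refine ⟨a, a.2, fun g hg hgM => ?_, fun g hg => ?_⟩
  · have h1 := key ⟨g, hgM⟩
    have h2 : q (δ ⟨g, hgM⟩) = 1 := (hq _).2 (h₀ g hg hgM)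
    rw [h2, one_mul] at h1
    have h3 : q (a⁻¹ * ρ ⟨g, hgM⟩ a) = 1 := by rw [map_mul, map_inv, ← h1, inv_mul_cancel]
    have h4 := (hq _).1 h3
    simpa [ρ, mul_assoc] using h4
  · have h1 := key ⟨g, hg⟩
    have h3 : q (a⁻¹ * (δ ⟨g, hg⟩ * ρ ⟨g, hg⟩ a)) = 1 := by
      rw [map_mul, map_inv, map_mul, ← h1, inv_mul_cancel]
    have h4 := (hq _).1 h3
    simp only [Subgroup.coe_mul, InvMemClass.coe_inv, δ, ρ, MonoidHom.coe_mk, OneHom.coe_mk] at h4
    rw [show (c * (a : G))⁻¹ * g * (c * a) * g⁻¹ = (a : G)⁻¹ * (c⁻¹ * g * c * g⁻¹ * (g * a * g⁻¹))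
      by group]
    exact h4

/-- Glauberman's control inside a product with a central cyclic `p`-group. -/
theorem commute_of_control [Finite G] {p : ℕ} [Fact p.Prime] (hp : p ≠ 2) {L V Q : Subgroup G}
    {c : G} (hQn : Q.Normal) (hLn : L.Normal) (hVL : V ≤ L) (hQV : Q ≤ V) (hVp : IsPGroup p V)
    (hmax : ∀ R : Subgroup G, IsPGroup p R → V ≤ R → R ≤ L → R ≤ V)
    (hcp : IsPGroup p (Subgroup.zpowers c)) (hcV : c ∈ Subgroup.centralizer (V : Set G))
    (hker : ∀ g ∈ L, g ∈ Subgroup.centralizer (Q : Set G) → (orderOf g).Coprime p → g = 1)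
    (hJ : ∀ l ∈ L, l ∈ Subgroup.normalizer ((thompsonSubgroupAOf V : Subgroup G) : Set G) →
      l * c = c * l) {l : G} (hl : l ∈ L) : l * c = c * l := by
  classical
  set Z := Subgroup.zpowers c
  set H := L ⊔ Z with hH
  have hVZ : Z ≤ Subgroup.centralizer (V : Set G) := Subgroup.zpowers_le.2 hcV
  haveI : IsMulCommutative Z := inferInstance
  set W := V ⊔ Z with hW
  have hWH : W ≤ H := sup_le_sup_right hVL _
  have hmem : ∀ h ∈ H, ∃ x ∈ L, ∃ z ∈ Z, x * z = h := fun h hh => by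
    rw [hH, ← SetLike.mem_coe, Subgroup.normal_mul] at hh
    exact hh
  have hWp : IsPGroup p W := hVp.to_sup_of_normal_left' hcp
    (hVZ.trans (CfsgLib.Fusion.centralizer_le_normalizer' V))
  have hZL : Z ⊓ L ≤ V := fun x hx =>
    (hmax (V ⊔ (Z ⊓ L)) (hWp.to_le (sup_le_sup_left inf_le_left _)) le_sup_left
      (sup_le hVL inf_le_right)) (Subgroup.mem_sup_right hx)
  have hWmax : ∀ R : Subgroup G, IsPGroup p R → W ≤ R → R ≤ H → R ≤ W := by
    intro R hR hWR hRH r hr
    obtain ⟨x, hx, z, hz, rfl⟩ := hmem r (hRH hr)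
    have hxR : x ∈ R := by
      simpa using mul_mem hr (inv_mem (hWR (Subgroup.mem_sup_right hz : z ∈ W)))
    exact mul_mem (Subgroup.mem_sup_left (hmax (R ⊓ L) (hR.to_le inf_le_left)
      (le_inf (le_sup_left.trans hWR) hVL) inf_le_right ⟨hxR, hx⟩)) (Subgroup.mem_sup_right hz)
  let T : Sylow p H :=
    { toSubgroup := W.subgroupOf H
      isPGroup' := hWp.comap_of_injective _ H.subtype_injective
      is_maximal' := fun {R} hR hWR => le_antisymm (fun r hr => Subgroup.mem_subgroupOf.2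
        (hWmax (R.map H.subtype) (hR.map _) (fun w hw => ⟨⟨w, hWH hw⟩, hWR hw, rfl⟩)
          (Subgroup.map_subtype_le R) ⟨r, hr, rfl⟩)) hWR }
  have hTW : (T : Subgroup H).map H.subtype = W := Subgroup.map_subgroupOf_eq_of_le hWH
  have hcW : c ∈ W := Subgroup.mem_sup_right (Subgroup.mem_zpowers c)
  have hcc : c ∈ Subgroup.centralizer (W : Set G) := by
    refine Subgroup.le_centralizer_iff.1 (sup_le (?_ : V ≤ _) ?_) (Subgroup.mem_zpowers c)
    · exact Subgroup.le_centralizer_iff.1 hVZ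
    · exact Subgroup.le_centralizer Z
  let x : H := ⟨c, hWH hcW⟩
  have hxT : x ∈ (T : Subgroup H) := hcW
  have hxc : x ∈ Subgroup.centralizer ((T : Subgroup H) : Set H) :=
    Subgroup.mem_centralizer_iff.2 fun w hw => Subtype.ext (hcc w hw)
  -- the largest normal `p`-subgroup of `H` contains its centralizer
  have hQH : Q ≤ H := (hQV.trans hVL).trans le_sup_left
  have hQHn : (Q.subgroupOf H).Normal := hQn.comap H.subtype
  have hQp : Q.subgroupOf H ≤ pCore p H := CfsgLib.Solvable.le_pCore p hQHn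
    ((hVp.to_le hQV).comap_of_injective _ H.subtype_injective)
  have hC : Subgroup.centralizer ((pCore p H : Subgroup H) : Set H) ≤ pCore p H := by
    refine (Subgroup.centralizer_le hQp).trans ?_
    haveI := hQHn
    refine CfsgLib.Solvable.le_pCore p inferInstance ?_
    rintro ⟨⟨h, hh⟩, hhC⟩
    obtain ⟨k, m, hm, he⟩ := Nat.exists_eq_pow_mul_and_not_dvd (orderOf_pos h).ne' p
      (Fact.out : p.Prime).ne_one
    refine ⟨k, Subtype.ext (Subtype.ext ?_)⟩
    show h ^ p ^ k = 1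
    have hord : orderOf (h ^ p ^ k) ∣ m := by
      rw [orderOf_dvd_iff_pow_eq_one, ← pow_mul, ← he, pow_orderOf_eq_one]
    have hco : (orderOf (h ^ p ^ k)).Coprime p := Nat.Coprime.coprime_dvd_left hord
      ((Fact.out : p.Prime).coprime_iff_not_dvd.2 hm).symm
    refine hker _ ?_ (pow_mem (Subgroup.mem_centralizer_iff.2 fun q hq =>
      congrArg Subtype.val ((Subgroup.mem_centralizer_iff.1 hhC) ⟨q, hQH hq⟩ hq)) _) hco
    haveI := hLn
    obtain ⟨a, ha, z, hz, haz⟩ := hmem _ (pow_mem hh (p ^ k) : h ^ p ^ k ∈ H)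
    have h1 : QuotientGroup.mk' L (h ^ p ^ k) = QuotientGroup.mk' L z := by
      rw [← haz, map_mul, show QuotientGroup.mk' L a = 1 from (QuotientGroup.eq_one_iff a).2 ha,
        one_mul]
    obtain ⟨i, hi⟩ := IsPGroup.iff_orderOf.1 hcp ⟨z, hz⟩
    rw [← Subgroup.orderOf_coe] at hi
    refine (QuotientGroup.eq_one_iff _).1 (orderOf_eq_one_iff.1 (Nat.eq_one_of_dvd_coprimes
      (hco.pow_right i) (orderOf_map_dvd (QuotientGroup.mk' L) (h ^ p ^ k)) ?_))
    show orderOf (QuotientGroup.mk' L (h ^ p ^ k)) ∣ p ^ i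
    rw [h1, ← hi]
    exact orderOf_map_dvd _ _
  have hxO := mem_pCore_of_central T hC hxc
  have hfix : ∀ n ∈ Subgroup.normalizer
      ((thompsonSubgroupAOf (T : Subgroup H) : Subgroup H) : Set H), n * x = x * n := by
    intro n hn
    obtain ⟨a, ha, z, hz, haz⟩ := hmem n n.2
    have hJW : (thompsonSubgroupAOf (T : Subgroup H)).map H.subtype = thompsonSubgroupAOf V ⊔ Z := by
      rw [thompsonAOf_map _ H.subtype_injective, hTW, hW, thompsonAOf_sup_central V Z hVZ]
    have hzfix : ∀ y ∈ W, z * y * z⁻¹ = y := fun y hy => by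
      rw [← (Subgroup.zpowers_le.2 hcc hz) y hy, mul_inv_cancel_right]
    have hJle : thompsonSubgroupAOf V ⊔ Z ≤ W := sup_le_sup_right (thompsonAOf_le V) _
    have hzc : z * c = c * z :=
      (Subgroup.zpowers_le.2 (Subgroup.mem_centralizer_singleton_iff.2 rfl :
        c ∈ Subgroup.centralizer {c}) hz |> Subgroup.mem_centralizer_singleton_iff.1)
    have hac : a * c = c * a := by
      refine hJ a ha ?_
      haveI : Finite ↥(thompsonSubgroupAOf V) := inferInstance
      refine CfsgLib.Fusion.mem_normalizer_of_conj_mem (S := (⊤ : Subgroup G)) le_top fun y hy => ?_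
      have hy' : y ∈ thompsonSubgroupAOf V ⊔ Z := Subgroup.mem_sup_left hy
      obtain ⟨⟨y', hy'H⟩, hyJ, rfl⟩ : y ∈ (thompsonSubgroupAOf (T : Subgroup H)).map H.subtype :=
        hJW.ge hy'
      have h1 : (n * ⟨y', hy'H⟩ * n⁻¹ : H) ∈ thompsonSubgroupAOf (T : Subgroup H) :=
        (Subgroup.mem_normalizer_iff.1 hn _).1 hyJ
      have h2 : (n : G) * y' * (n : G)⁻¹ ∈ thompsonSubgroupAOf V ⊔ Z := hJW.le ⟨_, h1, rfl⟩
      change a * y' * a⁻¹ ∈ thompsonSubgroupAOf V
      rw [← haz, show a * z * y' * (a * z)⁻¹ = a * (z * y' * z⁻¹) * a⁻¹ by group,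
        hzfix y' (hJle hy')] at h2
      have hJn : Z ≤ Subgroup.normalizer ((thompsonSubgroupAOf V : Subgroup G) : Set G) :=
        (hVZ.trans (Subgroup.centralizer_le (thompsonAOf_le V))).trans
          (CfsgLib.Fusion.centralizer_le_normalizer' _)
      rw [← SetLike.mem_coe, Subgroup.coe_mul_of_right_le_normalizer_left _ _ hJn] at h2
      obtain ⟨j, hj, z', hz', he⟩ := h2
      have hLy : a * y' * a⁻¹ ∈ L :=
        mul_mem (mul_mem ha (hVL (thompsonAOf_le V hy))) (inv_mem ha)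
      have hz'L : z' ∈ L := by
        rw [show z' = j⁻¹ * (a * y' * a⁻¹) by rw [← he]; group]
        exact mul_mem (inv_mem (hVL (thompsonAOf_le V hj))) hLy
      rw [← he]
      exact mul_mem hj (center_le_thompsonAOf V ⟨hZL ⟨hz', hz'L⟩, hVZ hz'⟩)
    refine Subtype.ext ?_
    show (n : G) * c = c * n
    rw [← haz, mul_assoc, hzc, ← mul_assoc, hac, mul_assoc]
  have hwc : CfsgLib.ZJ.WCHyp p H (T : Subgroup H) x := ⟨hxT, hfix, Or.inl hp⟩
  have := commute_of_weaklyClosed T hxO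
    (fun g hg => CfsgLib.ZJ.weaklyClosed_of_central_normalizer T hwc hg)
    ⟨l, Subgroup.mem_sup_left hl⟩
  exact congrArg Subtype.val this

end CfsgLib.NormalCentral
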