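import Cfsg.Agent.Fusion.FocalCentralizerNormal
import Cfsg.Agent.Fusion.NormalCentral.Group

/-!
Displacements of an element centralizing `T` by the maps that fix a subgroup of `T` pointwise.
-/

set_option autoImplicit false
set_option linter.style.haveILetI false

open Cfsg Cfsg.FusionSystem CfsgLib.Fusion CfsgLib.FocCent

namespace CfsgLib.NormalCentral

universe u

variable {Ω : Type u} [Group Ω] {S T : Subgroup Ω}

/-- `U ⟨c⟩`. -/
abbrev adj (c : Ω) (U : Subgroup Ω) : Subgroup Ω := U ⊔ Subgroup.zpowers c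

/-- `c` as an element of `U ⟨c⟩`. -/
def adjElt (c : Ω) (U : Subgroup Ω) : adj c U :=
  ⟨c, Subgroup.mem_sup_right (Subgroup.mem_zpowers c)⟩

/-- `a` is induced by an automorphism of `U ⟨c⟩` fixing `c`. -/
def Lifts (F : FusionSystem S) (c : Ω) {U : Subgroup Ω} (a : MulAut U) : Prop :=
  ∃ σ ∈ F.autGroup (adj c U), Agree le_sup_left σ a ∧ σ (adjElt c U) = adjElt c U

/-- `a` is induced by an automorphism of `U ⟨c⟩` moving `c` inside `c U`. -/
def NearLifts (F : FusionSystem S) (c : Ω) {U : Subgroup Ω} (a : MulAut U) : Prop :=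
  ∃ σ ∈ F.autGroup (adj c U), Agree le_sup_left σ a ∧
    c⁻¹ * ((σ (adjElt c U) : adj c U) : Ω) ∈ U

/-- The displacements of `c` by the automorphisms of `U ⟨c⟩` fixing `U` pointwise. -/
def Disp (F : FusionSystem S) (c : Ω) (U : Subgroup Ω) (z : Ω) : Prop :=
  z ∈ U ∧ ∃ η ∈ F.autGroup (adj c U), Agree le_sup_left η (1 : MulAut U) ∧
    ((η (adjElt c U) : adj c U) : Ω) = c * z

/-- `Aut_E(U)` fixes the displacements. -/
def FixDisp (F : FusionSystem S) (E : FusionSystem T) (c : Ω) (U : Subgroup Ω) : Prop :=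
  ∀ (z : Ω) (hz : z ∈ U), Disp F c U z → ∀ a ∈ E.autGroup U, a ⟨z, hz⟩ = ⟨z, hz⟩

/-- The automorphisms of `E` on `U` lift fixing `c` and fix the displacements. -/
def Good (F : FusionSystem S) (E : FusionSystem T) (c : Ω) (U : Subgroup Ω) : Prop :=
  (∀ a ∈ E.autGroup U, Lifts F c a) ∧ FixDisp F E c U

variable {F : FusionSystem S} {E : FusionSystem T} {c : Ω}

theorem Lifts.near {U : Subgroup Ω} {a : MulAut U} (h : Lifts F c a) : NearLifts F c a := by
  obtain ⟨σ, hσ, ha, hf⟩ := h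
  refine ⟨σ, hσ, ha, ?_⟩
  rw [hf]
  simp [adjElt]

theorem adj_le {U : Subgroup Ω} (hc : c ∈ centralizerIn S T) (hUT : U ≤ T) (hTS : T ≤ S) :
    adj c U ≤ S :=
  sup_le (hUT.trans hTS) (Subgroup.zpowers_le.2 hc.1)

theorem comm_c {U : Subgroup Ω} (hc : c ∈ centralizerIn S T) (hUT : U ≤ T) {x : Ω} (hx : x ∈ U) :
    x * c = c * x :=
  hc.2 x (hUT hx)

theorem adj_le_centralizer {U : Subgroup Ω} (hc : c ∈ centralizerIn S T) (hUT : U ≤ T) :
    Subgroup.zpowers c ≤ Subgroup.centralizer (U : Set Ω) :=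
  Subgroup.zpowers_le.2 (Subgroup.centralizer_le hUT hc.2)

/-- Two maps on `U ⟨c⟩` agree as soon as they agree on `U` and at `c`. -/
theorem adj_ext {U H : Subgroup Ω} {φ ψ : adj c U →* H}
    (h1 : ∀ x : U, φ (Subgroup.inclusion le_sup_left x) = ψ (Subgroup.inclusion le_sup_left x))
    (h2 : φ (adjElt c U) = ψ (adjElt c U)) : φ = ψ := by
  have hle : adj c U ≤ (φ.eqLocus ψ).map (adj c U).subtype := by
    refine sup_le (fun x hx => ⟨Subgroup.inclusion le_sup_left ⟨x, hx⟩, h1 ⟨x, hx⟩, rfl⟩) ?_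
    exact Subgroup.zpowers_le.2 ⟨adjElt c U, h2, rfl⟩
  refine MonoidHom.ext fun x => ?_
  obtain ⟨y, hy, he⟩ := hle x.2
  exact (Subtype.ext he : y = x) ▸ hy

theorem mulAut_adj_ext {U : Subgroup Ω} {φ ψ : MulAut (adj c U)}
    (h1 : ∀ x : U, φ (Subgroup.inclusion le_sup_left x) = ψ (Subgroup.inclusion le_sup_left x))
    (h2 : φ (adjElt c U) = ψ (adjElt c U)) : φ = ψ :=
  MulEquiv.ext fun x => DFunLike.congr_fun
    (adj_ext (φ := φ.toMonoidHom) (ψ := ψ.toMonoidHom) h1 h2) x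

/-- The image of `c` under an automorphism stabilizing `U` centralizes `U`. -/
theorem image_comm {U : Subgroup Ω} (hc : c ∈ centralizerIn S T) (hUT : U ≤ T)
    {σ : MulAut (adj c U)} {a : MulAut U} (ha : Agree le_sup_left σ a) (x : U) :
    (x : Ω) * ((σ (adjElt c U) : adj c U) : Ω) = ((σ (adjElt c U) : adj c U) : Ω) * x := by
  obtain ⟨y, rfl⟩ := a.surjective x
  rw [← ha y, ← Subgroup.coe_mul, ← Subgroup.coe_mul, ← map_mul, ← map_mul]
  exact congrArg (fun w : adj c U => ((σ w : adj c U) : Ω))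
    (Subtype.ext (comm_c hc hUT y.2))

theorem Disp.comm {U : Subgroup Ω} (hc : c ∈ centralizerIn S T) (hUT : U ≤ T) {z : Ω}
    (h : Disp F c U z) {x : Ω} (hx : x ∈ U) : x * z = z * x := by
  obtain ⟨-, η, -, ha, hz⟩ := h
  have h1 := image_comm hc hUT ha ⟨x, hx⟩
  rw [hz] at h1
  have h2 := comm_c hc hUT hx
  calc x * z = c⁻¹ * (x * (c * z)) := by rw [← mul_assoc x, h2]; group
    _ = z * x := by rw [h1]; group

/-- Displacements are carried to displacements by automorphisms moving `c` inside `c U`. -/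
theorem Disp.map {U : Subgroup Ω} (hc : c ∈ centralizerIn S T) (hUT : U ≤ T) {z : Ω} (hz : z ∈ U)
    (h : Disp F c U z) {a : MulAut U} (ha : NearLifts F c a) :
    Disp F c U ((a ⟨z, hz⟩ : U) : Ω) := by
  have h' := h
  obtain ⟨-, η, hη, hηa, hηc⟩ := h
  obtain ⟨σ, hσ, hσa, hu⟩ := ha
  -- `σ η σ⁻¹`
  refine ⟨(a _).2, σ * η * σ⁻¹, mul_mem (mul_mem hσ hη) (inv_mem hσ),
    by simpa using (hσa.mul hηa).mul hσa.inv, ?_⟩
  obtain ⟨u, hu', hue⟩ : ∃ u ∈ U, ((σ⁻¹ (adjElt c U) : adj c U) : Ω) = c * u := by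
    obtain ⟨w, hw⟩ := a.surjective ⟨_, hu⟩
    refine ⟨(w : Ω)⁻¹, inv_mem w.2, ?_⟩
    have he : σ (adjElt c U * (Subgroup.inclusion le_sup_left w)⁻¹) = adjElt c U := by
      rw [map_mul, map_inv]
      refine Subtype.ext ?_
      simp only [Subgroup.coe_mul, InvMemClass.coe_inv]
      rw [hσa w, hw]
      have hcu := image_comm hc hUT hσa ⟨_, hu⟩
      dsimp only at hcu
      show ((σ (adjElt c U) : adj c U) : Ω) * (c⁻¹ * ((σ (adjElt c U) : adj c U) : Ω))⁻¹ = c
      group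
    have h1 : σ⁻¹ (adjElt c U) = adjElt c U * (Subgroup.inclusion le_sup_left w)⁻¹ := by
      conv_lhs => rw [← he]
      rw [MulAut.inv_apply_self]
    rw [h1]
    simp [adjElt]
  have hσc : σ (adjElt c U * Subgroup.inclusion le_sup_left ⟨u, hu'⟩) = adjElt c U := by
    rw [show adjElt c U * Subgroup.inclusion le_sup_left ⟨u, hu'⟩ = σ⁻¹ (adjElt c U) from
      Subtype.ext (by rw [hue]; rfl), MulAut.apply_inv_self]
  have hi : σ⁻¹ (adjElt c U) = adjElt c U * Subgroup.inclusion le_sup_left ⟨u, hu'⟩ :=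
    Subtype.ext (by rw [hue]; rfl)
  have he : η (adjElt c U * Subgroup.inclusion le_sup_left ⟨u, hu'⟩) =
      adjElt c U * Subgroup.inclusion le_sup_left ⟨u, hu'⟩ *
        Subgroup.inclusion le_sup_left ⟨z, hz⟩ := by
    rw [map_mul]
    refine Subtype.ext ?_
    simp only [Subgroup.coe_mul]
    rw [hηc, hηa]
    show c * z * u = c * u * z
    rw [mul_assoc, mul_assoc, h'.comm hc hUT hu']
  rw [MulAut.mul_apply, MulAut.mul_apply, hi, he, map_mul, hσc, Subgroup.coe_mul, hσa]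
  rfl

/-- An automorphism of order prime to `p` of `U ⟨c⟩` moving `c` inside `c U` fixes `c`. -/
theorem Good.fix {p : ℕ} [Fact p.Prime] {U : Subgroup Ω} [Finite U] (hUp : IsPGroup p U)
    (hg : Good F E c U) (hc : c ∈ centralizerIn S T) (hUT : U ≤ T) {ψ : MulAut (adj c U)}
    (hψ : ψ ∈ F.autGroup (adj c U)) {a : MulAut U} (ha : a ∈ E.autGroup U)
    (hψa : Agree le_sup_left ψ a) (hco : (orderOf ψ).Coprime p)
    (hz : c⁻¹ * ((ψ (adjElt c U) : adj c U) : Ω) ∈ U) : ψ (adjElt c U) = adjElt c U := by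
  obtain ⟨σ, hσ, hσa, hσc⟩ := hg.1 a ha
  set z := c⁻¹ * ((ψ (adjElt c U) : adj c U) : Ω) with hzdef
  have hσc' : σ⁻¹ (adjElt c U) = adjElt c U := by
    conv_lhs => rw [← hσc]
    rw [MulAut.inv_apply_self]
  have hD : Disp F c U z := ⟨hz, ψ * σ⁻¹, mul_mem hψ (inv_mem hσ),
    by simpa using hψa.mul hσa.inv, by rw [MulAut.mul_apply, hσc', hzdef]; group⟩
  have hfix := hg.2 z hz hD a ha
  have hn : ∀ n : ℕ, (((ψ ^ n) (adjElt c U) : adj c U) : Ω) = c * z ^ n := by
    intro n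
    induction n with
    | zero => simp [adjElt]
    | succ n ih =>
      have h1 : (ψ ^ n) (adjElt c U) = adjElt c U * (Subgroup.inclusion le_sup_left ⟨z, hz⟩) ^ n :=
        Subtype.ext (by rw [ih]; simp [adjElt])
      rw [pow_succ', MulAut.mul_apply, h1, map_mul, map_pow, Subgroup.coe_mul, SubmonoidClass.coe_pow,
        hψa, hfix, show ((ψ (adjElt c U) : adj c U) : Ω) = c * z by rw [hzdef]; group, pow_succ',
        mul_assoc]
  have h1 : z ^ orderOf ψ = 1 := by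
    have := hn (orderOf ψ)
    rw [pow_orderOf_eq_one] at this
    exact left_eq_mul.1 this
  obtain ⟨j, hj⟩ := IsPGroup.iff_orderOf.1 hUp ⟨z, hz⟩
  rw [← Subgroup.orderOf_coe] at hj
  have hz1 : z = 1 := orderOf_eq_one_iff.1
    (Nat.eq_one_of_dvd_coprimes (hco.pow_right j) (orderOf_dvd_of_pow_eq_one h1) hj.dvd)
  exact Subtype.ext (inv_mul_eq_one.1 hz1).symm

/-- Pull back conjugation by an element normalizing the range of a map. -/
theorem exists_pullback [Finite S] {X : Subgroup Ω} {φ : X →* Ω} (hφ : φ ∈ F.Hom X) {s : Ω}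
    (hs : s ∈ S) (h : ∀ x : X, s * φ x * s⁻¹ ∈ φ.range) :
    ∃ a ∈ F.autGroup X, ∀ x : X, φ (a x) = s * φ x * s⁻¹ := by
  have hrS := range_le_S hφ
  have hconj : conjHom φ.range s ∈ F.Hom φ.range := F.conj_mem hrS hs
  obtain ⟨θ, hθ, hθr, -, hθ2⟩ := exists_inv hφ rfl
  have hmem : ∀ y : φ.range, conjHom φ.range s y ∈ φ.range := by
    rintro ⟨_, x, rfl⟩
    exact h x
  let χ : X →* Ω := θ.comp (((conjHom φ.range s).comp φ.rangeRestrict).codRestrict _ fun x =>
    hmem _)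
  have hχ : χ ∈ F.Hom X := by
    have h1 : (conjHom φ.range s).comp φ.rangeRestrict ∈ F.Hom X :=
      comp_mem_of_eq hφ hconj (fun x => ⟨x, rfl⟩) fun x => rfl
    exact comp_mem_of_eq h1 hθ (fun x => hmem _) fun x => rfl
  have hχr : χ.range = X := by
    refine eq_of_le_of_card_le (le_of_mem_hom hφ) ?_ (card_range hχ).ge
    rintro _ ⟨x, rfl⟩
    exact hθr.le ⟨_, rfl⟩
  refine ⟨autOfRange χ (F.injective_of_mem hχ) hχr, autOfRange_mem hχ hχr, fun x => ?_⟩
  refine Eq.trans (apply_congr φ ?_) (hθ2 ⟨s * φ x * s⁻¹, h x⟩ (hθr.le ⟨_, rfl⟩))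
  exact coe_autOfRange χ (F.injective_of_mem hχ) hχr x

/-- The automorphisms of `U ⟨c⟩` trivial on `U` and on the quotient form a `p`-group. -/
theorem isPGroup_disp {p : ℕ} [Fact p.Prime] {U : Subgroup Ω} [Finite U] (hUp : IsPGroup p U)
    {η : MulAut (adj c U)} (hη : Agree le_sup_left η (1 : MulAut U))
    (hz : c⁻¹ * ((η (adjElt c U) : adj c U) : Ω) ∈ U) : ∃ k : ℕ, η ^ p ^ k = 1 := by
  obtain ⟨j, hj⟩ := IsPGroup.iff_card.1 hUp
  obtain ⟨w, hw⟩ : ∃ w : U, (w : Ω) = c⁻¹ * ((η (adjElt c U) : adj c U) : Ω) := ⟨⟨_, hz⟩, rfl⟩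
  have h1 : η (adjElt c U) = adjElt c U * Subgroup.inclusion le_sup_left w := Subtype.ext (by
    rw [Subgroup.coe_mul, Subgroup.coe_inclusion, hw]; simp [adjElt])
  have hn : ∀ n : ℕ,
      (η ^ n) (adjElt c U) = adjElt c U * Subgroup.inclusion le_sup_left (w ^ n) := by
    intro n
    induction n with
    | zero => simp
    | succ n ih =>
      rw [pow_succ', MulAut.mul_apply, ih, map_mul, h1, hη.apply, MulAut.one_apply, pow_succ',
        map_mul, mul_assoc]
  refine ⟨j, mulAut_adj_ext (fun x => ?_) ?_⟩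
  · rw [(hη.pow _).apply, one_pow, MulAut.one_apply]; rfl
  · rw [hn, ← hj, pow_card_eq_one', map_one, mul_one]
    rfl

section

variable [Finite S] {p : ℕ} [Fact p.Prime] (hS : IsPGroup p S) (hF : F.IsSaturated p)
  (hinv : E.IsInvariantIn F) (hc : c ∈ centralizerIn S T)

include hS hF hinv hc in
/-- A displacement is realized on `N_T(U) ⟨c⟩`, and `N_T(U)` fixes it. -/
theorem Disp.extend {U : Subgroup Ω} (hU : E.IsCentric U) {z : Ω} (h : Disp F c U z) :
    (∀ v ∈ normalizerIn T U, v * z = z * v) ∧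
      ∃ η ∈ F.autGroup (adj c (normalizerIn T U)), ∃ w ∈ F.autGroup (normalizerIn T U),
        Agree le_sup_left η w ∧
        (∀ x : normalizerIn T U, (x : Ω) ∈ U → w x = x) ∧
        ((η (adjElt c (normalizerIn T U)) : adj c (normalizerIn T U)) : Ω) = c * z := by
  classical
  obtain ⟨hzU, η, hη, hηa, hηc⟩ := h
  have hTS := le_of_subsystem hinv.1
  have hUT : U ≤ T := hU.1
  have hTn : S ≤ Subgroup.normalizer (T : Set Ω) := stronglyClosed_normal_in_S hinv.2.1
  set V := normalizerIn T U with hVdef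
  have hVT : V ≤ T := normalizerIn_le_S U
  have hUV : U ≤ V := le_normalizerIn hUT
  have hVS : V ≤ S := hVT.trans hTS
  have hD : adj c U ≤ S := adj_le hc hUT hTS
  have hX : adj c V ≤ S := adj_le hc hVT hTS
  have hDX : adj c U ≤ adj c V := sup_le_sup_right hUV _
  haveI := finite_of_le hD
  haveI := finite_of_le hX
  haveI := finite_of_le (hUT.trans hTS)
  haveI : Finite (MulAut (adj c U)) := finite_mulAut
  have hVD : ∀ v ∈ V, v ∈ Subgroup.normalizer ((adj c U : Subgroup Ω) : Set Ω) := by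
    intro v hv
    refine mem_normalizer_sup (S := S) (hUT.trans hTS) (Subgroup.zpowers_le.2 hc.1) hv.2 ?_
    exact CfsgLib.Fusion.centralizer_le_normalizer' _ (Subgroup.mem_centralizer_iff.2 fun x hx => by
      obtain ⟨k, rfl⟩ := Subgroup.mem_zpowers_iff.1 hx
      exact ((show Commute v c from hc.2 v (hVT hv)).symm.zpow_left k).eq)
  -- the `p`-group of automorphisms of `U ⟨c⟩`
  let Γ : Subgroup (F.autGroup (adj c U)) :=
    { carrier := {a | Agree le_sup_left (a : MulAut (adj c U)) (1 : MulAut U) ∧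
        c⁻¹ * (((a : MulAut (adj c U)) (adjElt c U) : adj c U) : Ω) ∈ U}
      one_mem' := ⟨Agree.one, by simp [adjElt]⟩
      mul_mem' := by
        rintro a b ⟨ha, ha'⟩ ⟨hb, hb'⟩
        refine ⟨by simpa using ha.mul hb, ?_⟩
        have e : (b : MulAut (adj c U)) (adjElt c U) =
            adjElt c U * Subgroup.inclusion le_sup_left ⟨_, hb'⟩ :=
          Subtype.ext (by simp [adjElt])
        show c⁻¹ * (((a : MulAut (adj c U)) ((b : MulAut (adj c U)) (adjElt c U)) : adj c U) : Ω) ∈ U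
        rw [e, map_mul, Subgroup.coe_mul, ha, ← mul_assoc]
        exact mul_mem ha' (SetLike.coe_mem _)
      inv_mem' := by
        rintro a ⟨ha, ha'⟩
        refine ⟨by simpa using ha.inv, ?_⟩
        have e : ((a⁻¹ : F.autGroup (adj c U)) : MulAut (adj c U)) (adjElt c U) =
            adjElt c U * (Subgroup.inclusion le_sup_left ⟨_, ha'⟩)⁻¹ := by
          rw [InvMemClass.coe_inv]
          refine (a : MulAut (adj c U)).injective ?_
          rw [MulAut.apply_inv_self, map_mul, map_inv, eq_mul_inv_iff_mul_eq, ha.apply,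
            MulAut.one_apply]
          exact Subtype.ext (by simp [adjElt])
        rw [e]
        simpa [adjElt] using inv_mem ha' }
  have hΓp : IsPGroup p Γ := fun a => by
    obtain ⟨k, hk⟩ := isPGroup_disp (isPGroup_of_le hS (hUT.trans hTS)) a.2.1 a.2.2
    exact ⟨k, Subtype.ext (Subtype.ext hk)⟩
  let A : Subgroup (F.autGroup (adj c U)) :=
    (autInducedBy V (adj c U)).subgroupOf (F.autGroup (adj c U))
  have hAp : IsPGroup p A :=
    (isPGroup_autInducedBy (isPGroup_of_le hS hVS) _).comap_of_injective _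
      (F.autGroup (adj c U)).subtype_injective
  have hAΓ : A ≤ Subgroup.normalizer (Γ : Set (F.autGroup (adj c U))) := by
    intro a ha
    obtain ⟨v, hv, hva⟩ := mem_autInducedBy.1 (Subgroup.mem_subgroupOf.1 ha)
    refine mem_normalizer_of_conj_mem (S := (⊤ : Subgroup (F.autGroup (adj c U)))) le_top
      fun b hb => ⟨fun x => ?_, ?_⟩
    · simp only [Subgroup.coe_mul, InvMemClass.coe_inv, MulAut.mul_apply, MulAut.one_apply]
      have hx' : v⁻¹ * (x : Ω) * v ∈ U := (Subgroup.mem_normalizer_iff''.1 hv.2 x).1 x.2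
      have h1 : (a : MulAut (adj c U))⁻¹ (Subgroup.inclusion le_sup_left x) =
          Subgroup.inclusion le_sup_left ⟨_, hx'⟩ := by
        refine (a : MulAut (adj c U)).injective ?_
        rw [MulAut.apply_inv_self]
        refine Subtype.ext ?_
        rw [hva]
        show (x : Ω) = v * (v⁻¹ * x * v) * v⁻¹
        group
      rw [h1, hb.1.apply, MulAut.one_apply, hva]
      show v * (v⁻¹ * x * v) * v⁻¹ = (x : Ω)
      group
    · simp only [Subgroup.coe_mul, InvMemClass.coe_inv, MulAut.mul_apply]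
      have hvc : v * c * v⁻¹ = c := mul_inv_eq_iff_eq_mul.2 (hc.2 v (hVT hv))
      have h1 : (a : MulAut (adj c U))⁻¹ (adjElt c U) = adjElt c U := by
        refine (a : MulAut (adj c U)).injective ?_
        rw [MulAut.apply_inv_self]
        exact Subtype.ext (by rw [hva]; exact hvc.symm)
      have e : ((b : MulAut (adj c U)) (adjElt c U) : adj c U) =
          adjElt c U * Subgroup.inclusion le_sup_left ⟨_, hb.2⟩ :=
        Subtype.ext (by simp [adjElt])
      rw [h1, e, hva]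
      simp only [Subgroup.coe_mul, Subgroup.coe_inclusion]
      show c⁻¹ * (v * (c * (c⁻¹ * _)) * v⁻¹) ∈ U
      rw [show c⁻¹ * (v * (c * (c⁻¹ * (((b : MulAut (adj c U)) (adjElt c U) : adj c U) : Ω))) * v⁻¹)
        = c⁻¹ * (v * c * v⁻¹) * (v * (c⁻¹ * (((b : MulAut (adj c U)) (adjElt c U) : adj c U) : Ω)) *
          v⁻¹) by group, hvc, inv_mul_cancel, one_mul]
      exact (Subgroup.mem_normalizer_iff.1 hv.2 _).1 hb.2
  have hBp : IsPGroup p ↥(A ⊔ Γ) := hAp.to_sup_of_normal_right' hΓp hAΓ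
  -- move to a fully normalized conjugate
  obtain ⟨D', hDD', hfn⟩ := exists_fullyNormalized F hD
  obtain ⟨φ₀, hφ₀, hr⟩ := hDD'
  let e := isoRange φ₀ (F.injective_of_mem hφ₀) hr
  have he : ∀ x, ((e x : D') : Ω) = φ₀ x := fun x => rfl
  let f : F.autGroup (adj c U) →* F.autGroup D' :=
    { toFun := fun a => ⟨MulAut.congr e (a : MulAut (adj c U)),
        pow_mem_autGroup_iso hD hφ₀ e he a.2⟩
      map_one' := Subtype.ext (map_one (MulAut.congr e))
      map_mul' := fun a b => Subtype.ext (map_mul (MulAut.congr e) _ _) }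
  obtain ⟨R, hR⟩ := (good_of_fullyNormalized p hS hF hfn).1.2
  haveI := finite_of_le (hfn.1 : D' ≤ S)
  haveI : Finite (MulAut D') := finite_mulAut
  obtain ⟨R', hR'⟩ := (hBp.map f).exists_le_sylow
  obtain ⟨γ, hγ⟩ := MulAction.exists_smul_eq (F.autGroup D') R' R
  let φ : adj c U →* Ω := (D'.subtype.comp ((γ : MulAut D').toMonoidHom)).comp e.toMonoidHom
  have hφ : φ ∈ F.Hom (adj c U) := comp_mem_of_eq hφ₀ ((autGroup_carrier hfn.1).1 γ.2)
    (fun x => hr.le ⟨x, rfl⟩) fun x => rfl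
  have hind : ∀ b : F.autGroup (adj c U), b ∈ A ⊔ Γ → ∃ s ∈ S, ∀ x : adj c U,
      φ ((b : MulAut (adj c U)) x) = s * φ x * s⁻¹ := by
    intro b hb
    have h1 : γ * f b * γ⁻¹ ∈ (R : Subgroup (F.autGroup D')) := by
      rw [← hγ, Sylow.coe_subgroup_smul]
      exact ⟨f b, hR' ⟨b, hb, rfl⟩, rfl⟩
    rw [hR, Subgroup.mem_subgroupOf] at h1
    obtain ⟨s, hs, hse⟩ := mem_autInducedBy.1 h1
    refine ⟨s, hs, fun x => ?_⟩
    refine Eq.trans ?_ (hse ((γ : MulAut D') (e x)))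
    show (((γ : MulAut D') (e ((b : MulAut (adj c U)) x)) : D') : Ω) = _
    simp [f, MulAut.congr_apply]
  -- extend to `V ⟨c⟩`
  have hext : adj c V ≤ extender S (adj c U) φ := by
    refine sup_le (fun v hv => ?_)
      (Subgroup.zpowers_le.2 (le_extender hφ (adjElt c U).2))
    obtain ⟨b, hb⟩ : ∃ b : F.autGroup (adj c U), ∀ x : adj c U,
        (((b : MulAut (adj c U)) x : adj c U) : Ω) = v * x * v⁻¹ :=
      ⟨⟨conjAut S (adj c U) ⟨v, hVS hv, hVD v hv⟩, autInducedBy_le_autGroup hD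
        (mem_autInducedBy.2 ⟨v, hVS hv, fun _ => rfl⟩)⟩, fun _ => rfl⟩
    obtain ⟨s, hs, hse⟩ := hind b (Subgroup.mem_sup_left
      (Subgroup.mem_subgroupOf.2 (mem_autInducedBy.2 ⟨v, hv, hb⟩)))
    refine mem_extender_of ⟨hVS hv, hVD v hv⟩ hs fun x hx => ?_
    exact (apply_congr φ (hb x).symm).trans (hse x)
  have hfc : F.IsFullyCentralized φ.range := by
    have hφr : φ.range = D' := by
      refine eq_of_le_of_card_le hfn.1 ?_ ?_
      · rintro _ ⟨x, rfl⟩
        exact ((γ : MulAut D') (e x)).2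
      · rw [card_range hφ]
        exact (Nat.card_congr e.toEquiv).ge
    rw [hφr]
    exact fullyCentralized_of_fullyNormalized p hS hF hfn
  obtain ⟨χ, hχ, hχe⟩ := saturated_extend p hS hF hφ hfc hext
  -- the element inducing `η`
  obtain ⟨s, hs, hse⟩ := hind ⟨η, hη⟩ (Subgroup.mem_sup_right
    ⟨hηa, by rw [hηc, inv_mul_cancel_left]; exact hzU⟩)
  let cX : adj c V := adjElt c V
  have hχU : ∀ x (hx : x ∈ U), χ ⟨x, hDX (Subgroup.mem_sup_left hx)⟩ =
      φ ⟨x, Subgroup.mem_sup_left hx⟩ := fun x hx => hχe x _ _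
  have hsU : ∀ x (hx : x ∈ U), s * χ ⟨x, hDX (Subgroup.mem_sup_left hx)⟩ * s⁻¹ =
      χ ⟨x, hDX (Subgroup.mem_sup_left hx)⟩ := fun x hx => by
    rw [hχU x hx, ← hse]
    exact apply_congr φ (hηa ⟨x, hx⟩)
  have hzX : z ∈ adj c V := hDX (Subgroup.mem_sup_left hzU)
  have hsc : s * χ cX * s⁻¹ = χ cX * χ ⟨z, hzX⟩ := by
    have e1 : χ cX = φ (adjElt c U) := hχe c (adjElt c U).2 cX.2
    rw [e1, ← hse, hχU z hzU, ← map_mul]
    exact apply_congr φ (hηc)
  have hQ : F.IsConj U (((U.subgroupOf (adj c V))).map χ) := isConj_map hχ (hUV.trans le_sup_left)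
  set U' := (U.subgroupOf (adj c V)).map χ with hU'
  have hcent : centralizerIn T U' ≤ U' := centralizer_le_of_isConj hinv hU hQ
  have hw : ∀ v : V, ∃ w : Ω, w ∈ U' ∧ (∀ y ∈ U', y * w = w * y) ∧
      s * χ (Subgroup.inclusion le_sup_left v) * s⁻¹ =
        w * χ (Subgroup.inclusion le_sup_left v) := by
    intro v
    set v' := χ (Subgroup.inclusion le_sup_left v)
    have hv'T : v' ∈ T := map_mem_of_stronglyClosed hinv.2.1 hχ (hVT v.2)
    have hwT : s * v' * s⁻¹ * v'⁻¹ ∈ T :=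
      mul_mem ((Subgroup.mem_normalizer_iff.1 (hTn hs) v').1 hv'T) (inv_mem hv'T)
    have hwc : ∀ y ∈ U', y * (s * v' * s⁻¹ * v'⁻¹) = s * v' * s⁻¹ * v'⁻¹ * y := by
      intro y hy
      obtain ⟨x, hx, hxU, rfl⟩ := mem_map_subgroupOf.1 hy
      have hxv : (v : Ω)⁻¹ * x * v ∈ U := (Subgroup.mem_normalizer_iff''.1 v.2.2 x).1 hxU
      have e1 : χ ⟨(v : Ω)⁻¹ * x * v, hDX (Subgroup.mem_sup_left hxv)⟩ = v'⁻¹ * χ ⟨x, hx⟩ * v' := by
        rw [← map_inv, ← map_mul, ← map_mul]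
        exact apply_congr χ rfl
      have h1 := hsU _ hxv
      rw [e1] at h1
      have h2 : s * χ ⟨x, hx⟩ * s⁻¹ = χ ⟨x, hx⟩ := hsU x hxU
      calc χ ⟨x, hx⟩ * (s * v' * s⁻¹ * v'⁻¹)
          = s * v' * (v'⁻¹ * (s⁻¹ * (χ ⟨x, hx⟩ : Ω) * s) * v') * s⁻¹ * v'⁻¹ := by group
        _ = s * v' * (v'⁻¹ * χ ⟨x, hx⟩ * v') * s⁻¹ * v'⁻¹ := by
            rw [show s⁻¹ * (χ ⟨x, hx⟩ : Ω) * s = χ ⟨x, hx⟩ by
              conv_lhs => rw [← h2]
              group]
        _ = s * v' * s⁻¹ * (s * (v'⁻¹ * χ ⟨x, hx⟩ * v') * s⁻¹) * v'⁻¹ := by group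
        _ = s * v' * s⁻¹ * v'⁻¹ * χ ⟨x, hx⟩ := by rw [h1]; group
    exact ⟨_, hcent (mem_centralizerIn.2 ⟨hwT, hwc⟩), hwc, by group⟩
  have hc'U : ∀ y ∈ U', y * χ cX = χ cX * y := by
    intro y hy
    obtain ⟨x, hx, hxU, rfl⟩ := mem_map_subgroupOf.1 hy
    rw [← map_mul, ← map_mul]
    exact apply_congr χ (comm_c hc hUT hxU)
  refine ⟨fun v hv => ?_, ?_⟩
  · obtain ⟨w, hwU, hwc, hwe⟩ := hw ⟨v, hv⟩
    set v' := χ (Subgroup.inclusion le_sup_left (⟨v, hv⟩ : V))
    set z' := χ ⟨z, hzX⟩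
    set c' := χ cX
    have hvc : v' * c' * v'⁻¹ = c' := by
      rw [← map_inv, ← map_mul, ← map_mul]
      exact apply_congr χ (mul_inv_eq_iff_eq_mul.2 (hc.2 v (hVT hv)))
    have hz'U : z' ∈ U' := apply_mem_map_subgroupOf χ (x := ⟨z, hzX⟩) hzU
    have h1 : w * (c' * z') = c' * z' * w := by
      rw [← mul_assoc, hc'U w hwU, mul_assoc, ← hwc z' hz'U, mul_assoc]
    have h2 : v' * (c' * z') * v'⁻¹ = c' * z' := by
      calc v' * (c' * z') * v'⁻¹ = v' * (s * c' * s⁻¹) * v'⁻¹ := by rw [hsc]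
        _ = w⁻¹ * (w * v') * (s * c' * s⁻¹) * (w * v')⁻¹ * w := by group
        _ = w⁻¹ * (s * (v' * c' * v'⁻¹) * s⁻¹) * w := by rw [← hwe]; group
        _ = c' * z' := by rw [hvc, hsc, mul_assoc, ← h1]; group
    have h3 : v' * z' * v'⁻¹ = z' := by
      have : c' * (v' * z' * v'⁻¹) = c' * z' := by
        calc c' * (v' * z' * v'⁻¹) = (v' * c' * v'⁻¹) * (v' * z' * v'⁻¹) := by rw [hvc]
          _ = v' * (c' * z') * v'⁻¹ := by group
          _ = c' * z' := h2
      exact mul_left_cancel this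
    have h4 := F.injective_of_mem hχ (a₁ := Subgroup.inclusion le_sup_left (⟨v, hv⟩ : V) *
      ⟨z, hzX⟩) (a₂ := ⟨z, hzX⟩ * Subgroup.inclusion le_sup_left (⟨v, hv⟩ : V))
      (by rw [map_mul, map_mul]; exact mul_inv_eq_iff_eq_mul.1 h3)
    exact congrArg Subtype.val h4
  have hstab : ∀ x : adj c V, s * χ x * s⁻¹ ∈ χ.range := by
    intro x
    have hle : adj c V ≤ ((χ.range.comap ((MulAut.conj s).toMonoidHom.comp χ))).map
        (adj c V).subtype := by
      refine sup_le (fun v hv => ⟨Subgroup.inclusion le_sup_left (⟨v, hv⟩ : V), ?_, rfl⟩)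
        (Subgroup.zpowers_le.2 ⟨cX, ?_, rfl⟩)
      · obtain ⟨w, hwU, -, hwe⟩ := hw ⟨v, hv⟩
        show s * _ * s⁻¹ ∈ χ.range
        rw [hwe]
        exact mul_mem (Subgroup.map_le_range _ _ hwU) ⟨_, rfl⟩
      · show s * χ cX * s⁻¹ ∈ χ.range
        rw [hsc]
        exact mul_mem ⟨_, rfl⟩ ⟨_, rfl⟩
    obtain ⟨y, hy, hye⟩ := hle x.2
    exact (Subtype.ext hye : y = x) ▸ hy
  obtain ⟨η', hη', hη'e⟩ := exists_pullback hχ hs hstab
  have hinjχ := F.injective_of_mem hχ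
  have hη'V : ∀ x : adj c V, (x : Ω) ∈ V → ((η' x : adj c V) : Ω) ∈ V := by
    intro x hx
    obtain ⟨w, hwU, -, hwe⟩ := hw ⟨x, hx⟩
    obtain ⟨u, hu, huU, hue⟩ := mem_map_subgroupOf.1 hwU
    have h1 : η' x = ⟨u, hu⟩ * x := hinjχ (by rw [hη'e, map_mul, hue]; exact hwe)
    rw [h1]
    exact mul_mem (hUV huU) hx
  haveI := finite_of_le hVS
  obtain ⟨w, hw'⟩ := exists_agree (le_sup_left : V ≤ adj c V) η' hη'V
  refine ⟨η', hη', w, hw'.mem hX hη', hw', fun x hx => ?_, ?_⟩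
  · have h1 : η' (Subgroup.inclusion le_sup_left x) = Subgroup.inclusion le_sup_left x :=
      hinjχ (by rw [hη'e]; exact hsU (x : Ω) hx)
    exact Subtype.ext ((hw' x).symm.trans (congrArg Subtype.val h1))
  · have h1 : η' cX = cX * ⟨z, hzX⟩ := hinjχ (by rw [hη'e, map_mul]; exact hsc)
    exact congrArg Subtype.val h1

end

end CfsgLib.NormalCentral
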