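import Cfsg.Agent.Fusion.NormalCentral.Disp

/-!
The automorphisms of a normal subsystem fix the displacements of `c`, given this on the normalizers.
-/

set_option autoImplicit false
set_option linter.style.haveILetI false

open Cfsg Cfsg.FusionSystem CfsgLib.Fusion CfsgLib.FocCent

namespace CfsgLib.NormalCentral

universe u

variable {Ω : Type u} [Group Ω] {S T : Subgroup Ω} {F : FusionSystem S} {E : FusionSystem T} {c : Ω}

/-! ### The maps fixing `c` -/

/-- The maps of `E` that extend fixing `c`. -/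
def fixC (E : FusionSystem T) (F : FusionSystem S) (hTS : T ≤ S) (hc : c ∈ centralizerIn S T) :
    FusionSystem T :=
  fixSystem E F (Subgroup.zpowers c) (Subgroup.zpowers_le.2 hc.1) fun t ht =>
    mem_centralizerIn.2 ⟨hTS ht, fun x hx => by
      obtain ⟨k, rfl⟩ := Subgroup.mem_zpowers_iff.1 hx
      exact ((show Commute c t from (hc.2 t ht).symm).zpow_left k).eq⟩

theorem fixC_hom {hTS : T ≤ S} {hc : c ∈ centralizerIn S T} {P : Subgroup Ω} {φ : P →* Ω} :
    φ ∈ (fixC E F hTS hc).Hom P ↔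
      φ ∈ E.Hom P ∧ φ ∈ F.centralizerHom (Subgroup.zpowers c) P := Iff.rfl

theorem lifts_of_fixC [Finite S] {hTS : T ≤ S} {hc : c ∈ centralizerIn S T} {U : Subgroup Ω}
    (hUT : U ≤ T) {a : MulAut U} (ha : a ∈ (fixC E F hTS hc).autGroup U) : Lifts F c a := by
  obtain ⟨-, -, -, -, ψ, hψ, hψe, hψf⟩ := (autGroup_carrier hUT).1 ha
  have hr : ψ.range = adj c U := by
    refine eq_of_le_of_card_le (adj_le hc hUT hTS) ?_ (card_range hψ).ge
    rw [range_eq_sup]
    refine sup_le ?_ ?_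
    · rintro _ ⟨x, hx, rfl⟩
      exact Subgroup.mem_sup_left (Set.mem_of_eq_of_mem
        ((apply_congr ψ rfl).trans (hψe ⟨x, hx⟩)) (a ⟨x, hx⟩).2)
    · rintro _ ⟨x, hx, rfl⟩
      exact Subgroup.mem_sup_right (Set.mem_of_eq_of_mem
        ((apply_congr ψ rfl).trans (hψf ⟨x, hx⟩)) hx)
  refine ⟨autOfRange ψ (F.injective_of_mem hψ) hr, autOfRange_mem hψ hr, fun x => ?_,
    Subtype.ext ?_⟩
  · exact (coe_autOfRange ψ (F.injective_of_mem hψ) hr _).trans (hψe x)
  · exact (coe_autOfRange ψ (F.injective_of_mem hψ) hr _).trans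
      ((apply_congr ψ rfl).trans (hψf ⟨c, Subgroup.mem_zpowers c⟩))

theorem fixC_of_lifts {hTS : T ≤ S} {hc : c ∈ centralizerIn S T} {U : Subgroup Ω} (hUT : U ≤ T)
    {a : MulAut U} (hE : a ∈ E.autGroup U) (ha : Lifts F c a) :
    a ∈ (fixC E F hTS hc).autGroup U := by
  obtain ⟨σ, hσ, hσa, hσc⟩ := ha
  have hU : ∀ x ∈ U, x ∈ centralizerIn S (Subgroup.zpowers c) := fun x hx =>
    mem_centralizerIn.2 ⟨hTS (hUT hx), fun y hy => by
      obtain ⟨k, rfl⟩ := Subgroup.mem_zpowers_iff.1 hy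
      exact ((show Commute c x from (comm_c hc hUT hx).symm).zpow_left k).eq⟩
  have hσF := (autGroup_carrier (adj_le hc hUT hTS)).1 hσ
  refine (autGroup_carrier hUT).2 ⟨(autGroup_carrier hUT).1 hE,
    restrict_mem_of_eq hσF le_sup_left (fun x => (hσa x).symm), hU,
    fun x => hU _ (a x).2, _, hσF, hσa, fun x => ?_⟩
  obtain ⟨k, hk⟩ := Subgroup.mem_zpowers_iff.1 x.2
  have e : Subgroup.inclusion (le_sup_right : Subgroup.zpowers c ≤ adj c U) x = adjElt c U ^ k :=
    Subtype.ext (by simp [adjElt, hk])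
  show ((σ (Subgroup.inclusion le_sup_right x) : adj c U) : Ω) = x
  rw [e, map_zpow, hσc]
  simp [adjElt, hk]

/-- The extension of a map of `fixC` to `P ⟨c⟩`. -/
theorem exists_adj_of_fixC {hTS : T ≤ S} {hc : c ∈ centralizerIn S T} {P : Subgroup Ω}
    {φ : P →* Ω} (hφ : φ ∈ (fixC E F hTS hc).Hom P) :
    ∃ ψ ∈ F.Hom (adj c P), (∀ x : P, ψ (Subgroup.inclusion le_sup_left x) = φ x) ∧
      ψ (adjElt c P) = c := by
  obtain ⟨-, -, -, -, ψ, hψ, hψe, hψf⟩ := hφ
  exact ⟨ψ, hψ, hψe, (apply_congr ψ rfl).trans (hψf ⟨c, Subgroup.mem_zpowers c⟩)⟩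

/-- An isomorphism of the system transports automorphism groups back as well. -/
theorem congr_symm_mem {P Q : Subgroup Ω} (hP : P ≤ S) {φ : P →* Ω} (hφ : φ ∈ F.Hom P)
    (e : P ≃* Q) (he : ∀ x : P, ((e x : Q) : Ω) = φ x) {β : MulAut Q} (hβ : β ∈ F.autGroup Q) :
    MulAut.congr e.symm β ∈ F.autGroup P := by
  have hr : φ.range = Q := by
    ext y
    constructor
    · rintro ⟨x, rfl⟩; rw [← he]; exact (e x).2
    · intro hy
      obtain ⟨x, hx⟩ := e.surjective ⟨y, hy⟩
      exact ⟨x, by rw [← he, hx]⟩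
  have hQS : Q ≤ S := hr ▸ range_le_S hφ
  obtain ⟨θ, hθ, -, hθ1, -⟩ := exists_inv hφ hr
  refine pow_mem_autGroup_iso hQS hθ e.symm (fun y => ?_) hβ
  obtain ⟨x, rfl⟩ := e.surjective y
  rw [MulEquiv.symm_apply_apply]
  exact ((apply_congr θ (he x)).trans (hθ1 x (he x ▸ (e x).2))).symm

/-- `Good` moves along maps fixing `c`. -/
theorem Good.map [Finite S] (hc : c ∈ centralizerIn S T) (hTS : T ≤ S) {U U' : Subgroup Ω}
    (hUT : U ≤ T) (hg : Good F E c U) {φ : U →* Ω} (hφ : φ ∈ E.Hom U) (hr : φ.range = U')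
    {ψ : adj c U →* Ω} (hψ : ψ ∈ F.Hom (adj c U))
    (hψe : ∀ x : U, ψ (Subgroup.inclusion le_sup_left x) = φ x) (hψc : ψ (adjElt c U) = c) :
    Good F E c U' := by
  have hU'T : U' ≤ T := hr ▸ range_le_S hφ
  have hψr : ψ.range = adj c U' := by
    have h1 : (U.subgroupOf (adj c U)).map ψ = U' :=
      (map_eq_range_of_eq le_sup_left fun x hx _ => hψe ⟨x, hx⟩).trans hr
    have h2 : ((Subgroup.zpowers c).subgroupOf (adj c U)).map ψ = Subgroup.zpowers c := by
      have : (Subgroup.zpowers c).subgroupOf (adj c U) = Subgroup.zpowers (adjElt c U) := by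
        ext x
        simp only [Subgroup.mem_subgroupOf, Subgroup.mem_zpowers_iff]
        exact exists_congr fun k => by rw [Subtype.ext_iff]; simp [adjElt]
      rw [this, MonoidHom.map_zpowers, hψc]
    rw [range_eq_sup, h1, h2]
  let e := isoRange φ (E.injective_of_mem hφ) hr
  let ê := isoRange ψ (F.injective_of_mem hψ) hψr
  have hêU : ∀ x : U, ê (Subgroup.inclusion le_sup_left x) = Subgroup.inclusion le_sup_left (e x) :=
    fun x => Subtype.ext (hψe x)
  have hêc : ê (adjElt c U) = adjElt c U' := Subtype.ext hψc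
  have hES : adj c U ≤ S := adj_le hc hUT hTS
  have hagree : ∀ {σ : MulAut (adj c U)} {a : MulAut U}, Agree le_sup_left σ a →
      Agree le_sup_left (MulAut.congr ê σ) (MulAut.congr e a) := by
    intro σ a ha y
    obtain ⟨x, rfl⟩ := e.surjective y
    rw [← hêU x]
    simp only [MulAut.congr_apply, MulEquiv.trans_apply, MulEquiv.symm_apply_apply]
    rw [ha.apply, hêU]
    rfl
  have hagree' : ∀ {σ : MulAut (adj c U')} {a : MulAut U'}, Agree le_sup_left σ a →
      Agree le_sup_left (MulAut.congr ê.symm σ) (MulAut.congr e.symm a) := by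
    intro σ a ha x
    simp only [MulAut.congr_apply, MulEquiv.trans_apply, MulEquiv.symm_symm]
    rw [hêU, ha.apply]
    obtain ⟨x', hx'⟩ := e.surjective (a (e x))
    rw [← hx', ← hêU, MulEquiv.symm_apply_apply, MulEquiv.symm_apply_apply]
    rfl
  refine ⟨fun a ha => ?_, fun z hz hD a ha => ?_⟩
  · obtain ⟨σ, hσ, hσa, hσc⟩ := hg.1 _ (congr_symm_mem hUT hφ e (fun x => rfl) ha)
    refine ⟨MulAut.congr ê σ, pow_mem_autGroup_iso hES hψ ê (fun x => rfl) hσ, ?_, ?_⟩
    · have h1 := hagree hσa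
      rwa [show MulAut.congr e (MulAut.congr e.symm a) = a from
        MulEquiv.ext fun x => by simp [MulAut.congr_apply]] at h1
    · simp only [MulAut.congr_apply, MulEquiv.trans_apply]
      rw [show ê.symm (adjElt c U') = adjElt c U by rw [← hêc, MulEquiv.symm_apply_apply], hσc, hêc]
  · obtain ⟨x₀, hx₀⟩ := e.surjective ⟨z, hz⟩
    obtain ⟨-, η, hη, hηa, hηc⟩ := hD
    have hD' : Disp F c U x₀ := by
      refine ⟨x₀.2, MulAut.congr ê.symm η, congr_symm_mem hES hψ ê (fun x => rfl) hη, ?_, ?_⟩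
      · have h1 := hagree' hηa
        rwa [map_one] at h1
      · have h1 : η (adjElt c U') = ê (adjElt c U * Subgroup.inclusion le_sup_left x₀) := by
          rw [map_mul, hêc, hêU, hx₀]
          exact Subtype.ext hηc
        simp only [MulAut.congr_apply, MulEquiv.trans_apply, MulEquiv.symm_symm]
        rw [hêc, h1, MulEquiv.symm_apply_apply]
        rfl
    have h2 := hg.2 x₀ x₀.2 hD' _ (congr_symm_mem hUT hφ e (fun x => rfl) ha)
    rw [← hx₀]
    simp only [MulAut.congr_apply, MulEquiv.trans_apply, MulEquiv.symm_symm] at h2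
    exact (MulEquiv.symm_apply_eq e).1 h2

/-! ### Automorphisms normalizing `Aut_T(U)` -/

section

variable [Finite S] {p : ℕ} [Fact p.Prime] (hS : IsPGroup p S) (hF : F.IsSaturated p)
  (hEs : E.IsSaturated p) (hinv : E.IsInvariantIn F)

include hS hEs hinv in
/-- An automorphism of `U` in `E` normalizing `Aut_T(U)` extends to `N_T(U)`. -/
theorem exists_ext_normalizer {U : Subgroup Ω} (hU : E.IsCentric U) (hUn : E.IsFullyNormalized U)
    {b : E.autGroup U} (hb : b ∈ Subgroup.normalizer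
      (((autInducedBy T U).subgroupOf (E.autGroup U) : Subgroup (E.autGroup U)) :
        Set (E.autGroup U))) (hco : (orderOf b).Coprime p) :
    ∃ b' ∈ E.autGroup (normalizerIn T U), (orderOf b').Coprime p ∧
      Agree (le_normalizerIn hU.1) b' (b : MulAut U) := by
  have hTS := le_of_subsystem hinv.1
  have hT := isPGroup_of_le hS hTS
  haveI := finite_of_le hTS
  have hUT := hU.1
  set V := normalizerIn T U with hV
  have hVT : V ≤ T := normalizerIn_le_S U
  haveI := finite_of_le hVT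
  haveI : Finite (MulAut V) := finite_mulAut
  have hbE := (autGroup_carrier hUT).1 b.2
  have hext : V ≤ extender T U (U.subtype.comp (b : MulAut U).toMonoidHom) := by
    intro v hv
    let tv : E.autGroup U := ⟨conjAut T U ⟨v, hv⟩,
      autInducedBy_le_autGroup hUT (mem_autInducedBy.2 ⟨v, hv.1, fun _ => rfl⟩)⟩
    have h1 := (Subgroup.mem_normalizer_iff.1 hb tv).1
      (Subgroup.mem_subgroupOf.2 (mem_autInducedBy.2 ⟨v, hv.1, fun _ => rfl⟩))
    obtain ⟨t, ht, hte⟩ := mem_autInducedBy.1 (Subgroup.mem_subgroupOf.1 h1)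
    refine mem_extender_of hv ht fun x hx => ?_
    have h2 := hte ((b : MulAut U) x)
    simp only [Subgroup.coe_mul, InvMemClass.coe_inv, MulAut.mul_apply,
      MulAut.inv_apply_self] at h2
    exact h2
  obtain ⟨χ, hχ, hχe⟩ :=
    receptive_extend (good_of_fullyNormalized p hT hEs hUn).2 hbE (range_subtype_comp _) hext
  have hmap : (U.subgroupOf V).map χ = U :=
    (map_eq_range_of_eq (le_normalizerIn hUT) hχe).trans (range_subtype_comp _)
  have hr : χ.range = V := by
    refine eq_of_le_of_card_le hVT ?_ (card_range hχ).ge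
    rintro _ ⟨x, rfl⟩
    refine ⟨apply_mem_S hχ x, mem_normalizer_of_conj_mem hUT fun y hy => ?_⟩
    obtain ⟨w, hw, hwU, rfl⟩ := mem_map_subgroupOf.1 (hmap.ge hy)
    rw [← map_inv, ← map_mul, ← map_mul]
    exact hmap.le (apply_mem_map_subgroupOf χ ((Subgroup.mem_normalizer_iff.1 x.2.2 w).1 hwU))
  let B := autOfRange χ (E.injective_of_mem hχ) hr
  have hB : Agree (le_normalizerIn hUT) B (b : MulAut U) := fun x =>
    (coe_autOfRange χ (E.injective_of_mem hχ) hr _).trans (hχe x x.2 _)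
  obtain ⟨e, he1, he2⟩ := ConstrainedNormal.exists_pow_coprime p B
  refine ⟨B ^ e, pow_mem (autOfRange_mem hχ hr) e, he1, ?_⟩
  have hbo : (orderOf (b : MulAut U)).Coprime p := by rwa [Subgroup.orderOf_coe]
  have h1 : (b : MulAut U) ^ e = b := he2 _ hbo
    (orderOf_dvd_of_pow_eq_one ((hB.pow _).eq_one (pow_orderOf_eq_one B)))
  simpa [h1] using hB.pow e

include hS hEs hinv in
/-- A property closed under products holds for `Aut_E(U)` if it holds for the conjugates of
`Aut_T(U)` and the `p'`-elements normalizing it. -/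
theorem mem_of_normalizer {U : Subgroup Ω} (hUT : U ≤ T) (hUn : E.IsFullyNormalized U)
    (B : Subgroup (E.autGroup U))
    (hK : ∀ γ t : E.autGroup U, (t : MulAut U) ∈ autInducedBy T U → γ * t * γ⁻¹ ∈ B)
    (hN : ∀ b : E.autGroup U, b ∈ Subgroup.normalizer
      (((autInducedBy T U).subgroupOf (E.autGroup U) : Subgroup (E.autGroup U)) :
        Set (E.autGroup U)) → (orderOf b).Coprime p → b ∈ B)
    (a : E.autGroup U) : a ∈ B := by
  have hTS := le_of_subsystem hinv.1
  have hT := isPGroup_of_le hS hTS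
  haveI := finite_of_le hTS
  haveI := finite_of_le (hUT.trans hTS)
  haveI : Finite (MulAut U) := finite_mulAut
  obtain ⟨R, hR⟩ := (good_of_fullyNormalized p hT hEs hUn).1.2
  let K := Subgroup.normalClosure ((R : Subgroup (E.autGroup U)) : Set (E.autGroup U))
  have hKB : K ≤ B := by
    refine (Subgroup.closure_le _).2 fun k hk => ?_
    obtain ⟨t, ht, g, hg⟩ := Group.mem_conjugatesOfSet_iff.1 hk
    rw [SetLike.mem_coe, hR, Subgroup.mem_subgroupOf] at ht
    rw [eq_mul_inv_of_mul_eq hg.eq.symm]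
    exact hK _ _ ht
  have hRK : (R : Subgroup (E.autGroup U)) ≤ K := Subgroup.le_normalClosure
  rw [← hR] at hN
  have hNB : Subgroup.normalizer ((R : Subgroup (E.autGroup U)) : Set (E.autGroup U)) ≤ B :=
    le_of_sylow_coprime p R Subgroup.le_normalizer (hRK.trans hKB) fun b hb hco => hN b hb hco
  exact sup_le hNB hKB ((Sylow.normalizer_sup_eq_top' R hRK).ge (Subgroup.mem_top a))

include hS hF hEs hinv in
/-- The automorphisms in `E` of `U` fix the displacements, given that they lift and that those of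
`N_T(U)` are good. -/
theorem fixDisp_of (hc : c ∈ centralizerIn S T) {U : Subgroup Ω} (hU : E.IsCentric U)
    (hUn : E.IsFullyNormalized U) (hlift : ∀ a ∈ E.autGroup U, Lifts F c a)
    (hV : Good F E c (normalizerIn T U)) : FixDisp F E c U := by
  intro z hz hD a₀ ha₀
  have hTS := le_of_subsystem hinv.1
  have hUT := hU.1
  haveI := finite_of_le (hUT.trans hTS)
  haveI : Finite (MulAut U) := finite_mulAut
  set V := normalizerIn T U with hVdef
  have hVT : V ≤ T := normalizerIn_le_S U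
  have hUV : U ≤ V := le_normalizerIn hUT
  haveI := finite_of_le (hVT.trans hTS)
  let B : Subgroup (E.autGroup U) :=
    (MulAction.stabilizer (MulAut U) (⟨z, hz⟩ : U)).comap (E.autGroup U).subtype
  suffices h : (⟨a₀, ha₀⟩ : E.autGroup U) ∈ B from h
  refine mem_of_normalizer hS hEs hinv hUT hUn B (fun γ t ht => ?_) (fun b hb hco => ?_) _
  · -- conjugates of `Aut_T(U)`
    show ((γ : MulAut U) * t * (γ : MulAut U)⁻¹) ⟨z, hz⟩ = ⟨z, hz⟩
    have hD' := hD.map hc hUT hz (hlift _ (inv_mem γ.2)).near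
    obtain ⟨v, hv, hvt⟩ := mem_autInducedBy.1 ht
    have hvU : v ∈ V := ⟨hv, mem_normalizer_of_aut hvt⟩
    have h1 := (hD'.extend hS hF hinv hc hU).1 v hvU
    have h2 : (t : MulAut U) ((γ : MulAut U)⁻¹ ⟨z, hz⟩) = (γ : MulAut U)⁻¹ ⟨z, hz⟩ :=
      Subtype.ext (by rw [hvt, h1, mul_inv_cancel_right])
    rw [MulAut.mul_apply, MulAut.mul_apply, h2, MulAut.apply_inv_self]
  · -- elements normalizing `Aut_T(U)`
    show (b : MulAut U) ⟨z, hz⟩ = ⟨z, hz⟩
    obtain ⟨b', hb', hbco, hbb'⟩ := exists_ext_normalizer hS hEs hinv hU hUn hb hco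
    obtain ⟨η, hη, w, hw, hηw, hwU, hηc⟩ := (hD.extend hS hF hinv hc hU).2
    obtain ⟨σ, hσ, hσb, hσc⟩ := hV.1 b' hb'
    have heE : b' * w * b'⁻¹ * w⁻¹ ∈ E.autGroup V := by
      have h1 := mul_mem hb' (invariant_conj_aut hinv hVT hw (inv_mem hb'))
      simpa [mul_assoc] using h1
    obtain ⟨τ, hτ, hτe, hτc⟩ := hV.1 _ heE
    set z₁ : U := (b : MulAut U) ⟨z, hz⟩ * (⟨z, hz⟩ : U)⁻¹ with hz₁def
    set incl := Subgroup.inclusion (le_sup_left : V ≤ adj c V) with hincl
    set zV : V := ⟨z, hUV hz⟩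
    have hη0 : η (adjElt c V) = adjElt c V * incl zV := Subtype.ext hηc
    have hwz : w zV = zV := hwU zV hz
    have hηz : η (incl zV) = incl zV := by rw [hincl, hηw.apply, hwz]
    have hηi : η⁻¹ (adjElt c V) = adjElt c V * (incl zV)⁻¹ := by
      refine η.injective ?_
      rw [MulAut.apply_inv_self, map_mul, map_inv, hη0, hηz, mul_inv_cancel_right]
    have hσi : σ⁻¹ (adjElt c V) = adjElt c V := by
      refine σ.injective ?_
      rw [MulAut.apply_inv_self, hσc]
    have hτi : τ⁻¹ (adjElt c V) = adjElt c V := by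
      refine τ.injective ?_
      rw [MulAut.apply_inv_self, hτc]
    have hbi : ((b'⁻¹ zV : V) : Ω) ∈ U := by
      rw [← show Subgroup.inclusion hUV ⟨z, hz⟩ = zV from rfl, hbb'.inv.apply]
      exact SetLike.coe_mem _
    have hηb : η (incl (b'⁻¹ zV)) = incl (b'⁻¹ zV) := by rw [hincl, hηw.apply, hwU _ hbi]
    have hcV : ∀ x : V, Commute (adjElt c V) (incl x) := fun x =>
      Subtype.ext (comm_c hc hVT x.2).symm
    have hκ : (σ * η * σ⁻¹ * η⁻¹) (adjElt c V) =
        adjElt c V * incl (b' zV * zV⁻¹) := by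
      rw [MulAut.mul_apply, MulAut.mul_apply, MulAut.mul_apply, hηi, map_mul, hσi, map_inv,
        show σ⁻¹ (incl zV) = incl (b'⁻¹ zV) from hσb.inv.apply _, map_mul, hη0, map_inv, hηb,
        map_mul, map_mul, hσc, map_inv]
      rw [show σ (incl (b'⁻¹ zV)) = incl zV by rw [hincl, hσb.apply, MulAut.apply_inv_self],
        show σ (incl zV) = incl (b' zV) from hσb.apply _, map_mul, map_inv, mul_assoc]
    have hzz : (b' zV * zV⁻¹ : V) = Subgroup.inclusion hUV z₁ := by
      rw [hz₁def, map_mul, map_inv, ← hbb'.apply]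
      rfl
    have hD₁ : Disp F c V z₁ := by
      refine ⟨hUV z₁.2, σ * η * σ⁻¹ * η⁻¹ * τ⁻¹,
        mul_mem (mul_mem (mul_mem (mul_mem hσ hη) (inv_mem hσ)) (inv_mem hη)) (inv_mem hτ), ?_, ?_⟩
      · simpa using (((hσb.mul hηw).mul hσb.inv).mul hηw.inv).mul hτe.inv
      · rw [MulAut.mul_apply, hτi, hκ, hzz]
        rfl
    have hfix := hV.2 _ (hUV z₁.2) hD₁ b' hb'
    have hfixU : (b : MulAut U) z₁ = z₁ :=
      Subgroup.inclusion_injective hUV (by rw [← hbb'.apply]; exact hfix)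
    have hb1 : (b : MulAut U) ⟨z, hz⟩ = z₁ * ⟨z, hz⟩ := by rw [hz₁def, inv_mul_cancel_right]
    have hn : ∀ n : ℕ, ((b : MulAut U) ^ n) ⟨z, hz⟩ = z₁ ^ n * ⟨z, hz⟩ := by
      intro n
      induction n with
      | zero => simp
      | succ n ih =>
        rw [pow_succ', MulAut.mul_apply, ih, map_mul, map_pow, hfixU, hb1, ← mul_assoc,
          ← pow_succ]
    have h1 : z₁ ^ orderOf (b : MulAut U) = 1 := by
      have := hn (orderOf (b : MulAut U))
      rw [pow_orderOf_eq_one, MulAut.one_apply] at this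
      exact right_eq_mul.1 this
    obtain ⟨j, hj⟩ := IsPGroup.iff_orderOf.1 (isPGroup_of_le hS (hUT.trans hTS)) z₁
    have hco' : (orderOf (b : MulAut U)).Coprime p := by rwa [Subgroup.orderOf_coe]
    rw [hb1, orderOf_eq_one_iff.1 (Nat.eq_one_of_dvd_coprimes (hco'.pow_right j)
      (orderOf_dvd_of_pow_eq_one h1) hj.dvd), one_mul]

end

end CfsgLib.NormalCentral
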