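import Cfsg.Agent.Fusion.LocalModels
import Cfsg.Agent.Fusion.FocalCentralizerNormal

/-!
A local group at a fully normalized subgroup that need not be centric.
-/

set_option autoImplicit false
set_option linter.style.haveILetI false

open Cfsg Cfsg.FusionSystem CfsgLib.Fusion CfsgLib.FocCent

namespace CfsgLib.NormalCentral

universe u

variable {Ω : Type u} [Group Ω] {S : Subgroup Ω}

/-- A finite group realizing the automorphisms of `Q C_S(Q)` stabilizing `Q`, with `N_S(Q)` as a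
Sylow subgroup. -/
structure Loc (p : ℕ) (F : FusionSystem S) (Q : Subgroup Ω) where
  /-- the group -/
  G : Type u
  [grp : Group G]
  [fin : Finite G]
  /-- the embedding of `N_S(Q)` -/
  ι : ↥(normalizerIn S Q) →* G
  inj : Function.Injective ι
  sylow : ∀ R : Subgroup G, IsPGroup p R → ι.range ≤ R → R ≤ ι.range
  normalQ : (img ι Q).Normal
  normalC : (img ι (centralizerIn S Q)).Normal
  cent : Subgroup.centralizer ((img ι Q ⊔ img ι (centralizerIn S Q) : Subgroup G) : Set G) ≤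
    img ι Q ⊔ img ι (centralizerIn S Q)
  real : ∀ (D : Subgroup Ω) (hD : D ≤ normalizerIn S Q) (g : G),
    (∀ x : D, g * ι ⟨x, hD x.2⟩ * g⁻¹ ∈ ι.range) →
    ∃ φ ∈ F.Hom D, ∃ h : ∀ x, φ x ∈ normalizerIn S Q,
      ∀ x : D, ι ⟨φ x, h x⟩ = g * ι ⟨x, hD x.2⟩ * g⁻¹
  lift : ∀ (hQ : Q ≤ normalizerIn S Q), ∀ a ∈ F.autGroup Q, ∃ g : G, ∀ q : Q,
    ι ⟨((a q : Q) : Ω), hQ (a q).2⟩ = g * ι ⟨q, hQ q.2⟩ * g⁻¹

attribute [instance] Loc.grp Loc.fin

variable [Finite S] {p : ℕ} [Fact p.Prime] {F : FusionSystem S}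

theorem exists_loc (hS : IsPGroup p S) (hF : F.IsSaturated p) {Q : Subgroup Ω}
    (hQ : F.IsFullyNormalized Q) : Nonempty (Loc p F Q) := by
  classical
  obtain ⟨hfa, hrec⟩ := good_of_fullyNormalized p hS hF hQ
  have hQc := fullyCentralized_of_fullyNormalized p hS hF hQ
  set C := centralizerIn S Q with hC
  set R := Q ⊔ C with hR
  have hCS : C ≤ S := centralizerIn_le_S Q
  have hRS : R ≤ S := sup_le hQ.1 hCS
  have := finite_of_le hQ.1
  have := finite_of_le hCS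
  have hRc : F.IsCentric R := by
    refine ⟨hRS, ?_⟩
    rintro _ ⟨φ, hφ, rfl⟩ x hx
    set Q' := (Q.subgroupOf R).map φ
    have hxQ : x ∈ centralizerIn S Q' := mem_centralizerIn.2
      ⟨hx.1, fun y hy => hx.2 y (Subgroup.map_le_range _ _ hy)⟩
    obtain ⟨-, hsurj⟩ := card_le_card_map (A := C) (B := centralizerIn S Q')
      (centralizerIn_le_S Q') (F.injective_of_mem hφ) le_sup_right
      fun g hg => map_mem_centralizerIn hφ le_sup_left hg _
    obtain ⟨g, hg, rfl⟩ := hsurj (hQc.2 Q' (isConj_map hφ le_sup_left)) x hxQ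
    exact ⟨_, rfl⟩
  obtain ⟨T', N', L, hL, ι', j, -, -, -, -, hι', hj, hjn, hjc⟩ := exists_localModel p hS hF hRc
  haveI : Finite L := hι'.1
  haveI := finite_of_le (normalizerIn_le_S (S := S) R)
  have hsub : normalizerIn S Q ≤ normalizerIn S R := by
    intro g hg
    refine ⟨hg.1, mem_normalizer_sup hQ.1 hCS hg.2 (mem_normalizer_of_conj_mem hCS fun x hx => ?_)⟩
    obtain ⟨hxS, hxc⟩ := mem_centralizerIn.1 hx
    refine mem_centralizerIn.2 ⟨mul_mem (mul_mem hg.1 hxS) (inv_mem hg.1), fun y hy => ?_⟩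
    have h1 := hxc _ ((Subgroup.mem_normalizer_iff''.1 hg.2 y).1 hy)
    calc y * (g * x * g⁻¹) = g * ((g⁻¹ * y * g) * x) * g⁻¹ := by group
      _ = g * x * g⁻¹ * y := by rw [h1]; group
  have hQN : Q ≤ normalizerIn S Q := le_normalizerIn hQ.1
  have hCN : C ≤ normalizerIn S Q := centralizerIn_le_normalizerIn Q
  have hRN : R ≤ normalizerIn S Q := sup_le hQN hCN
  let H : Subgroup L := Subgroup.normalizer ((img j Q : Subgroup L) : Set L)
  have hmemH : ∀ x : ↥(normalizerIn S Q), j (Subgroup.inclusion hsub x) ∈ H := fun x => by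
    refine img_le_img_of_mem j fun y hy => ?_
    rw [← map_inv, ← map_mul, ← map_mul]
    exact apply_mem_img ((Subgroup.mem_normalizer_iff.1 x.2.2 y).1 hy)
  let ι : ↥(normalizerIn S Q) →* H := (j.comp (Subgroup.inclusion hsub)).codRestrict H hmemH
  have hinj : Function.Injective ι := fun a b hab =>
    Subgroup.inclusion_injective hsub (hj.1 (congrArg Subtype.val hab :))
  have himg : ∀ P : Subgroup Ω, P ≤ normalizerIn S Q → ∀ y : H,
      y ∈ img ι P ↔ (y : L) ∈ img j P := by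
    intro P hP y
    constructor
    · rintro ⟨x, hx, rfl⟩
      exact apply_mem_img (x := Subgroup.inclusion hsub x) hx
    · rintro ⟨x, hx, he⟩
      exact ⟨⟨x, hP hx⟩, hx, Subtype.ext he⟩
  have hnQ : (img ι Q).Normal := ⟨fun n hn g => by
    rw [himg Q hQN] at hn ⊢
    exact (Subgroup.mem_normalizer_iff.1 g.2 _).1 hn⟩
  have hnC : (img ι C).Normal := by
    refine ⟨fun n hn g => ?_⟩
    obtain ⟨x, hx, rfl⟩ := hn
    obtain ⟨r, hr, hre⟩ := hjn.conj_mem _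
      (apply_mem_img (ι := j) (x := Subgroup.inclusion hsub x) (Subgroup.mem_sup_right (S := Q) hx)) (g : L)
    refine ⟨⟨r, hRN hr⟩, mem_centralizerIn.2 ⟨hRS hr, fun q hq => ?_⟩, Subtype.ext hre⟩
    obtain ⟨q', hq', hq'e⟩ := hnQ.conj_mem _ (apply_mem_img (ι := ι) (x := ⟨q, hQN hq⟩) hq) g⁻¹
    have e : (g : H) * ι q' * g⁻¹ = ι ⟨q, hQN hq⟩ := by rw [hq'e]; group
    have h2 : ι ⟨r, hRN hr⟩ = g * ι x * g⁻¹ := Subtype.ext hre
    have h3 : ι q' * ι x = ι x * ι q' := by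
      rw [← map_mul, ← map_mul]
      exact congrArg ι (Subtype.ext ((mem_centralizerIn.1 hx).2 q' hq'))
    have h4 : ι ⟨q, hQN hq⟩ * ι ⟨r, hRN hr⟩ = ι ⟨r, hRN hr⟩ * ι ⟨q, hQN hq⟩ := by
      rw [← e, h2]
      calc g * ι q' * g⁻¹ * (g * ι x * g⁻¹) = g * (ι q' * ι x) * g⁻¹ := by group
        _ = g * ι x * g⁻¹ * (g * ι q' * g⁻¹) := by rw [h3]; group
    rw [← map_mul, ← map_mul] at h4
    exact congrArg Subtype.val (hinj h4)
  have hRimg : img ι Q ⊔ img ι C = img ι R := by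
    unfold img
    rw [hR, Subgroup.subgroupOf_sup hQN hCN, Subgroup.map_sup]
  have hcent : Subgroup.centralizer ((img ι Q ⊔ img ι C : Subgroup H) : Set H) ≤
      img ι Q ⊔ img ι C := by
    rw [hRimg]
    intro g hg
    rw [himg R hRN]
    refine hjc (Subgroup.mem_centralizer_iff.2 ?_)
    rintro _ ⟨x, hx, rfl⟩
    exact congrArg Subtype.val (Subgroup.mem_centralizer_iff.1 hg (ι ⟨x, hRN hx⟩)
      (apply_mem_img (ι := ι) (x := ⟨x, hRN hx⟩) hx))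
  have hreal : ∀ (D : Subgroup Ω) (hD : D ≤ normalizerIn S Q) (g : H),
      (∀ x : D, g * ι ⟨x, hD x.2⟩ * g⁻¹ ∈ ι.range) →
      ∃ φ ∈ F.Hom D, ∃ h : ∀ x, φ x ∈ normalizerIn S Q,
        ∀ x : D, ι ⟨φ x, h x⟩ = g * ι ⟨x, hD x.2⟩ * g⁻¹ := by
    intro D hD g hg
    obtain ⟨φ, hφ, hφe⟩ := exists_realized_hom hj (hD.trans hsub) (g := (g : L)) fun x => by
      obtain ⟨y, hy⟩ := hg x
      exact ⟨Subgroup.inclusion hsub y, congrArg Subtype.val hy⟩
    have hmem : ∀ x, φ x ∈ normalizerIn S Q := fun x => by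
      obtain ⟨y, hy⟩ := hg x
      have h1 : Subgroup.inclusion hsub y = ⟨φ x, apply_mem_S hφ x⟩ :=
        hj.1 ((congrArg Subtype.val hy).trans (hφe x).symm)
      exact Set.mem_of_eq_of_mem (congrArg Subtype.val h1).symm y.2
    exact ⟨φ, hφ.1, hmem, fun x => Subtype.ext (hφe x)⟩
  have hlift : ∀ (hQ' : Q ≤ normalizerIn S Q), ∀ a ∈ F.autGroup Q, ∃ g : H, ∀ q : Q,
      ι ⟨((a q : Q) : Ω), hQ' (a q).2⟩ = g * ι ⟨q, hQ' q.2⟩ * g⁻¹ := by
    intro hQ' a ha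
    have haF := (autGroup_carrier hQ.1).1 ha
    obtain ⟨ψ, hψ, hψe⟩ := receptive_extend hrec haF (range_subtype_comp a)
      (sup_le (le_extender haF) (centralizerIn_le_extender Q _) : R ≤ _)
    have hψQ : (Q.subgroupOf R).map ψ = Q :=
      (map_eq_range_of_eq le_sup_left hψe).trans (range_subtype_comp a)
    have hψr : ψ.range = R := by
      refine eq_of_le_of_card_le hRS ?_ (card_range hψ).ge
      rw [range_eq_sup, hψQ]
      refine sup_le_sup_left (fun y hy => ?_) Q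
      obtain ⟨w, hw, hwC, rfl⟩ := mem_map_subgroupOf.1 hy
      have := map_mem_centralizerIn hψ (P := Q) le_sup_left hwC hw
      rwa [hψQ] at this
    have hψN : ψ ∈ (normSystem F R hRc.1).Hom R := by
      refine ⟨hψ, le_normalizerIn hRS, fun x => le_normalizerIn hRS (hψr.le ⟨x, rfl⟩),
        ψ.comp (Subgroup.inclusion (sup_le le_rfl le_rfl)), restrict_mem hψ _, fun x => rfl, ?_⟩
      rw [map_subgroupOf_congr (ψ := ψ.comp (Subgroup.inclusion (sup_le le_rfl le_rfl))) (χ := ψ)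
        le_sup_right le_rfl fun _ _ => rfl, map_subgroupOf_self, hψr]
    obtain ⟨g, hg⟩ := realized_hom hj hψN
    have hgq : ∀ q : Q, j ⟨((a q : Q) : Ω), hsub (hQN (a q).2)⟩ =
        g * j ⟨q, hsub (hQN q.2)⟩ * g⁻¹ := fun q =>
      (congrArg j (Subtype.ext (hψe q q.2 (Subgroup.mem_sup_left q.2)).symm)).trans
        (hg ⟨q, Subgroup.mem_sup_left q.2⟩)
    have hgH : g ∈ H := by
      refine mem_normalizer_of_conj_mem (S := (⊤ : Subgroup L)) le_top ?_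
      rintro _ ⟨x, hx, rfl⟩
      have := hgq ⟨x, hx⟩
      refine Set.mem_of_eq_of_mem this.symm ?_
      exact apply_mem_img (ι := j) (x := ⟨_, hsub (hQN (a ⟨x, hx⟩).2)⟩) (a ⟨x, hx⟩).2
    exact ⟨⟨g, hgH⟩, fun q => Subtype.ext (hgq q)⟩
  refine ⟨{ G := H, ι := ι, inj := hinj, normalQ := hnQ, normalC := hnC, cent := hcent
            real := hreal, lift := hlift, sylow := ?_ }⟩
  intro Rp hRp hle x hx
  -- the action on `Q`
  have hact : ∀ g : H, ∃ a : F.autGroup Q, ∀ q : Q,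
      ι ⟨(((a : MulAut Q) q : Q) : Ω), hQN ((a : MulAut Q) q).2⟩ = g * ι ⟨q, hQN q.2⟩ * g⁻¹ := by
    intro g
    obtain ⟨φ, hφ, hφN, hφe⟩ := hreal Q hQN g fun q =>
      img_le_range Q (hnQ.conj_mem _ (apply_mem_img (ι := ι) (x := ⟨q, hQN q.2⟩) q.2) g)
    have hr : φ.range = Q := by
      refine eq_of_le_of_card_le hQ.1 ?_ (card_range hφ).ge
      rintro _ ⟨q, rfl⟩
      refine (mem_img hinj (x := ⟨φ q, hφN q⟩)).1 ?_
      rw [hφe]
      exact hnQ.conj_mem _ (apply_mem_img (ι := ι) (x := ⟨q, hQN q.2⟩) q.2) g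
    exact ⟨⟨_, autOfRange_mem hφ hr⟩, fun q =>
      (congrArg ι (Subtype.ext (coe_autOfRange φ (F.injective_of_mem hφ) hr q))).trans (hφe q)⟩
  choose act hact using hact
  have hext : ∀ a b : F.autGroup Q, (∀ q : Q,
      ι ⟨(((a : MulAut Q) q : Q) : Ω), hQN ((a : MulAut Q) q).2⟩ =
        ι ⟨(((b : MulAut Q) q : Q) : Ω), hQN ((b : MulAut Q) q).2⟩) → a = b := fun a b h =>
    Subtype.ext (MulEquiv.ext fun q => Subtype.ext
      (congrArg (fun w : ↥(normalizerIn S Q) => (w : Ω)) (hinj (h q))))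
  let α : H →* F.autGroup Q := MonoidHom.mk' act fun g₁ g₂ => hext _ _ fun q => by
    simp only [Subgroup.coe_mul, MulAut.mul_apply]
    rw [hact, hact, hact]
    group
  haveI : Finite (MulAut Q) := finite_mulAut
  obtain ⟨U, hU⟩ := hfa.2
  have hUle : (U : Subgroup (F.autGroup Q)) ≤ Rp.map α := by
    intro a ha
    rw [hU, Subgroup.mem_subgroupOf] at ha
    obtain ⟨s, hs, hsa⟩ := mem_autInducedBy.1 ha
    have hsN : s ∈ normalizerIn S Q := ⟨hs, mem_normalizer_of_aut hsa⟩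
    refine ⟨ι ⟨s, hsN⟩, hle ⟨_, rfl⟩, hext _ _ fun q => ?_⟩
    show ι ⟨(((act _ : F.autGroup Q) : MulAut Q) q : Q), _⟩ = _
    rw [hact, ← map_inv, ← map_mul, ← map_mul]
    exact congrArg ι (Subtype.ext (hsa q).symm)
  have hmapeq := U.is_maximal' (hRp.map α) hUle
  have hxU : α x ∈ (U : Subgroup (F.autGroup Q)) := hmapeq.le ⟨x, hx, rfl⟩
  rw [hU, Subgroup.mem_subgroupOf] at hxU
  obtain ⟨s, hs, hsa⟩ := mem_autInducedBy.1 hxU
  have hsN : s ∈ normalizerIn S Q := ⟨hs, mem_normalizer_of_aut hsa⟩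
  obtain ⟨k, hk⟩ : ∃ k, k = (ι ⟨s, hsN⟩)⁻¹ * x := ⟨_, rfl⟩
  have hkR : k ∈ Rp := hk ▸ mul_mem (inv_mem (hle ⟨_, rfl⟩)) hx
  have hkQ : ∀ q : Q, k * ι ⟨q, hQN q.2⟩ * k⁻¹ = ι ⟨q, hQN q.2⟩ := by
    intro q
    have h1 : ι ⟨(((act x : F.autGroup Q) : MulAut Q) q : Q), hQN ((act x : MulAut Q) q).2⟩ =
        x * ι ⟨q, hQN q.2⟩ * x⁻¹ := hact x q
    have h2 : (⟨(((act x : F.autGroup Q) : MulAut Q) q : Q), hQN ((act x : MulAut Q) q).2⟩ :
        ↥(normalizerIn S Q)) = ⟨s, hsN⟩ * ⟨q, hQN q.2⟩ * ⟨s, hsN⟩⁻¹ := Subtype.ext (hsa q)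
    rw [h2, map_mul, map_mul, map_inv] at h1
    calc k * ι ⟨q, hQN q.2⟩ * k⁻¹
        = (ι ⟨s, hsN⟩)⁻¹ * (x * ι ⟨q, hQN q.2⟩ * x⁻¹) * ι ⟨s, hsN⟩ := by rw [hk]; group
      _ = ι ⟨q, hQN q.2⟩ := by rw [← h1]; group
  -- `k` acts on `C` as a map of `C_F(Q)`
  have hsat := centralizerSystem_saturated p hS hF hQc (centSystem_spec F Q hQ.1)
  have hCp : IsPGroup p C := isPGroup_of_le hS hCS
  have hkC : ∀ y : C, k * ι ⟨y, hCN y.2⟩ * k⁻¹ ∈ img ι C := fun y =>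
    hnC.conj_mem _ (apply_mem_img (ι := ι) (x := ⟨y, hCN y.2⟩) y.2) k
  obtain ⟨φ, hφ, hφN, hφe⟩ := hreal R hRN k fun y => by
    have : img ι R ≤ ι.range := img_le_range R
    refine this ?_
    rw [← hRimg]
    have h1 : ι ⟨y, hRN y.2⟩ ∈ img ι Q ⊔ img ι C := hRimg ▸ apply_mem_img (ι := ι) (x := ⟨y, hRN y.2⟩) y.2
    haveI := hnQ
    haveI := hnC
    exact (inferInstance : (img ι Q ⊔ img ι C).Normal).conj_mem _ h1 k
  have hφQ : ∀ q : Q, φ (Subgroup.inclusion le_sup_left q) = q := fun q =>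
    congrArg Subtype.val (hinj (a₁ := ⟨φ (Subgroup.inclusion le_sup_left q), hφN _⟩)
      (a₂ := ⟨q, hQN q.2⟩) ((hφe _).trans (hkQ q)))
  have hφC : ∀ y : C, φ (Subgroup.inclusion le_sup_right y) ∈ C := fun y => by
    refine (mem_img hinj (x := ⟨_, hφN _⟩)).1 ?_
    rw [hφe]
    exact hkC y
  have hφr : (φ.comp (Subgroup.inclusion le_sup_right : C →* R)).range = C := by
    refine eq_of_le_of_card_le hCS ?_ (card_range (restrict_mem hφ le_sup_right)).ge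
    rintro _ ⟨y, rfl⟩
    exact hφC y
  let γ := autOfRange _ (F.injective_of_mem (restrict_mem hφ le_sup_right)) hφr
  have hγe : ∀ y : C, ((γ y : C) : Ω) = φ (Subgroup.inclusion le_sup_right y) := fun y =>
    coe_autOfRange _ (F.injective_of_mem (restrict_mem hφ le_sup_right)) hφr y
  have hγmem : γ ∈ (centSystem F Q hQ.1).autGroup C := by
    refine (autGroup_carrier le_rfl).2 ⟨restrict_mem_of_eq hφ le_sup_right hγe, le_rfl,
      fun y => (γ y).2, φ.comp (Subgroup.inclusion (sup_le le_sup_right le_sup_left)),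
      restrict_mem hφ _, fun y => (hγe y).symm, fun q => hφQ q⟩
  obtain ⟨i, hi⟩ := IsPGroup.iff_orderOf.1 hRp ⟨k, hkR⟩
  rw [← Subgroup.orderOf_coe] at hi
  have hγpow : ∀ (n : ℕ) (y : C), ι ⟨((γ ^ n) y : C), hCN ((γ ^ n) y).2⟩ =
      k ^ n * ι ⟨y, hCN y.2⟩ * (k ^ n)⁻¹ := by
    intro n
    induction n with
    | zero => intro y; simp
    | succ n ih =>
      intro y
      have h1 : ι ⟨((γ ((γ ^ n) y) : C) : Ω), hCN (γ ((γ ^ n) y)).2⟩ =
          k * ι ⟨((γ ^ n) y : C), hCN ((γ ^ n) y).2⟩ * k⁻¹ :=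
        (congrArg ι (Subtype.ext (hγe _))).trans
          (hφe (Subgroup.inclusion le_sup_right ((γ ^ n) y)))
      simp only [pow_succ', MulAut.mul_apply]
      rw [h1, ih]
      group
  haveI : Finite (MulAut C) := finite_mulAut
  obtain ⟨UC, hUC⟩ := (good_of_fullyNormalized p hCp hsat
    (isFullyNormalized_S (S := C))).1.2
  have hUn : (UC : Subgroup ((centSystem F Q hQ.1).autGroup C)).Normal := by
    rw [hUC, ← inn_eq_autInducedBy]; exact inn_subgroupOf_normal C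
  let γ' : (centSystem F Q hQ.1).autGroup C := ⟨γ, hγmem⟩
  have hγp : γ' ^ p ^ i = 1 := by
    refine Subtype.ext (MulEquiv.ext fun y => Subtype.ext ?_)
    have h1 := hγpow (p ^ i) y
    rw [← hi, pow_orderOf_eq_one, one_mul, inv_one, mul_one] at h1
    have h2 := congrArg Subtype.val (hinj h1)
    rw [hi] at h2
    simpa [γ'] using h2
  have hz : IsPGroup p (Subgroup.zpowers γ') := by
    intro w
    obtain ⟨l, hl⟩ := Subgroup.mem_zpowers_iff.1 w.2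
    refine ⟨i, Subtype.ext ?_⟩
    show (w : (centSystem F Q hQ.1).autGroup C) ^ p ^ i = 1
    rw [← hl, ← zpow_natCast, ← zpow_mul, mul_comm, zpow_mul, zpow_natCast, hγp, one_zpow]
  have h1 := UC.is_maximal' (UC.2.to_sup_of_normal_left hz) le_sup_left
  have h2 : γ' ∈ (UC : Subgroup ((centSystem F Q hQ.1).autGroup C)) :=
    h1.le (Subgroup.mem_sup_right (Subgroup.mem_zpowers γ'))
  rw [hUC, Subgroup.mem_subgroupOf] at h2
  obtain ⟨t, ht, hte⟩ := mem_autInducedBy.1 h2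
  have htQ : ∀ q ∈ Q, q * t = t * q := (mem_centralizerIn.1 ht).2
  have hkt : (ι ⟨t, hCN ht⟩)⁻¹ * k ∈ img ι Q ⊔ img ι C := by
    refine hcent ?_
    refine Subgroup.le_centralizer_iff.1
      (sup_le ?_ ?_) (Subgroup.mem_zpowers ((ι ⟨t, hCN ht⟩)⁻¹ * k))
    · rintro _ ⟨q, hq, rfl⟩
      refine Subgroup.le_centralizer_iff.1 (Subgroup.zpowers_le.2 (Subgroup.mem_centralizer_iff.2
        (Set.forall_mem_image.2 fun w hw => ?_))) (apply_mem_img (ι := ι) (P := Q) (x := q) hq)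
      have e1 : k * ι w = ι w * k := mul_inv_eq_iff_eq_mul.1 (hkQ ⟨w, hw⟩)
      have e2 : ι w * ι ⟨t, hCN ht⟩ = ι ⟨t, hCN ht⟩ * ι w := by
        rw [← map_mul, ← map_mul]; exact congrArg ι (Subtype.ext (htQ w hw))
      calc ι w * ((ι ⟨t, hCN ht⟩)⁻¹ * k)
          = (ι ⟨t, hCN ht⟩)⁻¹ * (ι ⟨t, hCN ht⟩ * ι w) * ((ι ⟨t, hCN ht⟩)⁻¹ * k) := by group
        _ = (ι ⟨t, hCN ht⟩)⁻¹ * (ι w * k) := by rw [← e2]; group
        _ = (ι ⟨t, hCN ht⟩)⁻¹ * k * ι w := by rw [← e1, mul_assoc]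
    · rintro _ ⟨y, hy, rfl⟩
      refine Subgroup.le_centralizer_iff.1 (Subgroup.zpowers_le.2 (Subgroup.mem_centralizer_iff.2
        (Set.forall_mem_image.2 fun w hw => ?_))) (apply_mem_img (ι := ι) (P := C) (x := y) hy)
      have e1 : ι ⟨t, hCN ht⟩ * ι w * (ι ⟨t, hCN ht⟩)⁻¹ = k * ι w * k⁻¹ := by
        rw [← map_inv, ← map_mul, ← map_mul]
        exact (congrArg ι (Subtype.ext ((hte ⟨w, hw⟩).symm.trans (hγe ⟨w, hw⟩)))).trans
          (hφe ⟨(w : Ω), Subgroup.mem_sup_right hw⟩)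
      calc ι w * ((ι ⟨t, hCN ht⟩)⁻¹ * k)
          = (ι ⟨t, hCN ht⟩)⁻¹ * (ι ⟨t, hCN ht⟩ * ι w * (ι ⟨t, hCN ht⟩)⁻¹) * k := by group
        _ = (ι ⟨t, hCN ht⟩)⁻¹ * k * ι w := by rw [e1]; group
  have hxe : x = ι ⟨s, hsN⟩ * (ι ⟨t, hCN ht⟩ * ((ι ⟨t, hCN ht⟩)⁻¹ * k)) := by rw [hk]; group
  rw [hxe]
  exact mul_mem ⟨_, rfl⟩ (mul_mem ⟨_, rfl⟩
    (sup_le (img_le_range Q) (img_le_range C) hkt))

/-- The map through which `N_S(P)` acts in a local group. -/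
abbrev Loc.via {Q P : Subgroup Ω} (M : Loc p F Q) (χ : ↥(normalizerIn S P) →* Ω)
    (hχN : ∀ x, χ x ∈ normalizerIn S Q) : ↥(normalizerIn S P) →* M.G :=
  M.ι.comp (χ.codRestrict _ hχN)

omit [Fact p.Prime] in
/-- Elements normalizing the image of `D` induce automorphisms of the system on `D`. -/
theorem Loc.exists_aut {Q P : Subgroup Ω} (M : Loc p F Q) {χ : ↥(normalizerIn S P) →* Ω}
    (hχ : χ ∈ F.Hom (normalizerIn S P)) (hχN : ∀ x, χ x ∈ normalizerIn S Q) {D : Subgroup Ω}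
    (hD : D ≤ normalizerIn S P) {g : M.G}
    (hg : ∀ x : D, g * M.via χ hχN ⟨x, hD x.2⟩ * g⁻¹ ∈ img (M.via χ hχN) D) :
    ∃ a ∈ F.autGroup D, ∀ x : D, M.via χ hχN ⟨((a x : D) : Ω), hD (a x).2⟩ =
      g * M.via χ hχN ⟨x, hD x.2⟩ * g⁻¹ := by
  have hinj := F.injective_of_mem hχ
  let D' : Subgroup Ω := (D.subgroupOf (normalizerIn S P)).map χ
  have hD' : D' ≤ normalizerIn S Q := by rintro _ ⟨x, -, rfl⟩; exact hχN x
  have hDD' : ∀ x : D, χ ⟨x, hD x.2⟩ ∈ D' := fun x => apply_mem_map_subgroupOf χ x.2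
  obtain ⟨φ, hφ, hφN, hφe⟩ := M.real D' hD' g (by
    rintro ⟨_, y, hy, rfl⟩
    obtain ⟨w, -, hw⟩ := hg ⟨y, hy⟩
    exact ⟨⟨χ w, hχN w⟩, hw⟩)
  let ψ : D →* Ω := φ.comp ((χ.comp (Subgroup.inclusion hD)).codRestrict D' hDD')
  have hψ : ψ ∈ F.Hom D := F.comp_mem (restrict_mem hχ hD) hφ hDD'
  have hψr : ∀ x : D, ∃ w, w.1 ∈ D ∧ χ w = ψ x := fun x => by
    obtain ⟨w, hw, hwe⟩ := hg x
    refine ⟨w, hw, congrArg Subtype.val (M.inj (hwe.trans (hφe ⟨_, hDD' x⟩).symm))⟩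
  obtain ⟨θ, hθ, -, hθ1, -⟩ := exists_inv (restrict_mem hχ hD) rfl
  have hval : ∀ x : D, ψ x ∈ (χ.comp (Subgroup.inclusion hD)).range := fun x => by
    obtain ⟨w, hw, hwe⟩ := hψr x
    exact ⟨⟨w, hw⟩, hwe⟩
  let a₀ : D →* Ω := θ.comp (ψ.codRestrict _ hval)
  have ha₀ : a₀ ∈ F.Hom D := F.comp_mem hψ hθ hval
  have hkey : ∀ x : D, ∃ w : D, a₀ x = w ∧ χ ⟨w, hD w.2⟩ = ψ x := fun x => by
    obtain ⟨w, hw, hwe⟩ := hψr x
    exact ⟨⟨w, hw⟩, (apply_congr θ hwe.symm).trans (hθ1 ⟨w, hw⟩ ⟨_, rfl⟩), hwe⟩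
  have hr : a₀.range = D := by
    refine eq_of_le_of_card_le (le_of_mem_hom ha₀) ?_ (card_range ha₀).ge
    rintro _ ⟨x, rfl⟩
    obtain ⟨w, hw, -⟩ := hkey x
    rw [hw]
    exact w.2
  refine ⟨_, autOfRange_mem ha₀ hr, fun x => ?_⟩
  obtain ⟨w, hw, hwe⟩ := hkey x
  refine Eq.trans ?_ (hφe ⟨_, hDD' x⟩)
  refine congrArg M.ι (Subtype.ext ?_)
  refine Eq.trans ?_ hwe
  exact apply_congr χ ((coe_autOfRange a₀ (F.injective_of_mem ha₀) hr x).trans hw)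

end CfsgLib.NormalCentral
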