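import Cfsg.Agent.Fusion.NormalCentral.Fix
import Cfsg.Agent.Fusion.NormalCentral.Loc

/-!
The normal closure of `N_T(Q)` in a local group centralizes `c`.
-/

set_option autoImplicit false
set_option linter.style.haveILetI false

open Cfsg Cfsg.FusionSystem CfsgLib.Fusion CfsgLib.FocCent
open scoped commutatorElement

namespace CfsgLib.NormalCentral

universe u

variable {Ω : Type u} [Group Ω] {S T : Subgroup Ω} {F : FusionSystem S} {E : FusionSystem T} {c : Ω}

/-- The elements realizing automorphisms of `P` in `E` contain the normal closure of the image of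
`N_T(P)`. -/
theorem acts_of_mem_normalClosure (hinv : E.IsInvariantIn F) {P : Subgroup Ω} (hPT : P ≤ T)
    {G : Type*} [Group G] {j : ↥(normalizerIn S P) →* G} (hj : Function.Injective j)
    (hP : P ≤ normalizerIn S P)
    (hact : ∀ g : G, ∃ a ∈ F.autGroup P, ∀ x : P,
      j ⟨((a x : P) : Ω), hP (a x).2⟩ = g * j ⟨x, hP x.2⟩ * g⁻¹)
    {g : G} (hg : g ∈ Subgroup.normalClosure ((img j (normalizerIn T P) : Subgroup G) : Set G)) :
    ∃ a ∈ E.autGroup P, ∀ x : P,
      j ⟨((a x : P) : Ω), hP (a x).2⟩ = g * j ⟨x, hP x.2⟩ * g⁻¹ := by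
  let K : Subgroup G :=
    { carrier := {g | ∃ a ∈ E.autGroup P, ∀ x : P,
        j ⟨((a x : P) : Ω), hP (a x).2⟩ = g * j ⟨x, hP x.2⟩ * g⁻¹}
      one_mem' := ⟨1, one_mem _, fun x => by simp⟩
      mul_mem' := by
        rintro g h ⟨a, ha, hae⟩ ⟨b, hb, hbe⟩
        refine ⟨a * b, mul_mem ha hb, fun x => ?_⟩
        simp only [MulAut.mul_apply]
        rw [hae, hbe]; group
      inv_mem' := by
        rintro g ⟨a, ha, hae⟩
        refine ⟨a⁻¹, inv_mem ha, fun x => ?_⟩
        have h1 := hae (a⁻¹ x)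
        simp only [MulAut.apply_inv_self] at h1
        rw [h1]; group }
  have hKn : K.Normal := ⟨fun g ⟨a, ha, hae⟩ h => by
    obtain ⟨b, hb, hbe⟩ := hact h
    refine ⟨b * a * b⁻¹, invariant_conj_aut hinv hPT hb ha, fun x => ?_⟩
    have h1 := hbe (b⁻¹ x)
    simp only [MulAut.apply_inv_self] at h1
    simp only [MulAut.mul_apply]
    rw [hbe, hae, h1]; group⟩
  refine (Subgroup.normalClosure_le_normal (N := K) ?_) hg
  rintro _ ⟨n, hn, rfl⟩
  refine ⟨conjAut T P ⟨n, hn⟩, autInducedBy_le_autGroup hPT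
    (mem_autInducedBy.2 ⟨n, hn.1, fun _ => rfl⟩), fun x => ?_⟩
  rw [← map_inv, ← map_mul, ← map_mul]
  rfl

/-- A Sylow subgroup meets a normal subgroup in a maximal `p`-subgroup. -/
theorem maximal_inf_of_normal {G : Type*} [Group G] [Finite G] {p : ℕ} [Fact p.Prime]
    (U : Sylow p G) (L : Subgroup G) [hL : L.Normal] {R : Subgroup G} (hR : IsPGroup p R)
    (hle : L ⊓ (U : Subgroup G) ≤ R) (hRL : R ≤ L) : R ≤ L ⊓ (U : Subgroup G) := by
  obtain ⟨U', hU'⟩ := hR.exists_le_sylow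
  obtain ⟨g, hg⟩ := MulAction.exists_smul_eq G U' U
  have hmap : R.map (MulAut.conj g).toMonoidHom ≤ L ⊓ (U : Subgroup G) := by
    rintro _ ⟨x, hx, rfl⟩
    refine ⟨hL.conj_mem x (hRL hx) g, ?_⟩
    rw [← hg, Sylow.coe_subgroup_smul]
    exact ⟨x, hU' hx, rfl⟩
  have hc := Subgroup.card_le_of_le hmap
  rw [← Nat.card_congr (R.equivMapOfInjective _ (MulAut.conj g).injective).toEquiv] at hc
  exact (Subgroup.eq_of_le_of_card_ge hle hc).ge

/-- `j(c)`-commutation passes to the automorphism. -/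
theorem order_of_realized {D : Subgroup Ω} {G : Type*} [Group G] {N : Subgroup Ω}
    {j : N →* G} (hj : Function.Injective j) (hD : D ≤ N) {a : MulAut D} {g : G}
    (h : ∀ x : D, j ⟨((a x : D) : Ω), hD (a x).2⟩ = g * j ⟨x, hD x.2⟩ * g⁻¹) :
    orderOf a ∣ orderOf g := by
  have hn : ∀ (n : ℕ) (x : D), j ⟨(((a ^ n) x : D) : Ω), hD ((a ^ n) x).2⟩ =
      g ^ n * j ⟨x, hD x.2⟩ * (g ^ n)⁻¹ := by
    intro n
    induction n with
    | zero => intro x; simp
    | succ n ih =>
      intro x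
      simp only [pow_succ', MulAut.mul_apply]
      rw [h, ih]; group
  refine orderOf_dvd_of_pow_eq_one (MulEquiv.ext fun x => ?_)
  have h1 := hn (orderOf g) x
  rw [pow_orderOf_eq_one, one_mul, inv_one, mul_one] at h1
  exact Subtype.ext (congrArg (fun w : N => (w : Ω)) (hj h1))

section

variable [Finite S] {p : ℕ} [Fact p.Prime] (hS : IsPGroup p S) (hF : F.IsSaturated p)
  (hEs : E.IsSaturated p) (hinv : E.IsInvariantIn F)

include hS hEs hinv in
/-- An automorphism of `U ⊇ P` of order prime to `p` lies in `E` when its restriction to the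
centric subgroup `P` does. -/
theorem mem_of_restrict {P U : Subgroup Ω} (hP : E.IsCentric P) (hPU : P ≤ U)
    (hU : U ≤ normalizerIn T P) {a : MulAut U} (ha : a ∈ F.autGroup U)
    (hco : (orderOf a).Coprime p) {b : MulAut P} (hb : b ∈ E.autGroup P) (hab : Agree hPU a b) :
    a ∈ E.autGroup U := by
  have hTS := le_of_subsystem hinv.1
  have hT := isPGroup_of_le hS hTS
  have hUT : U ≤ T := hU.trans (normalizerIn_le_S P)
  haveI := finite_of_le hTS
  haveI := finite_of_le (hUT.trans hTS)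
  haveI := finite_of_le (hP.1.trans hTS)
  haveI : Finite (MulAut U) := finite_mulAut
  have hbE := (autGroup_carrier hP.1).1 hb
  have hext : U ≤ extender T P (P.subtype.comp b.toMonoidHom) := fun u hu => by
    refine mem_extender_of (hU hu) (hUT (a ⟨u, hu⟩).2) fun x hx => ?_
    show ((b ⟨u * x * u⁻¹, _⟩ : P) : Ω) = _ * ((b x : P) : Ω) * _
    rw [← hab, ← hab x, ← InvMemClass.coe_inv, ← Subgroup.coe_mul, ← Subgroup.coe_mul,
      ← map_inv, ← map_mul, ← map_mul]
    rfl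
  obtain ⟨χ, hχ, hχe⟩ := saturated_extend p hT hEs hbE
    (by rw [range_subtype_comp]; exact isFullyCentralized_of_centric hP) hext
  have hz : ∀ u : U, ((a u : U) : Ω)⁻¹ * χ u ∈ P := fun u => by
    refine centralizerIn_le_self hP (mem_centralizerIn.2
      ⟨mul_mem (inv_mem (hUT (a u).2)) (apply_mem_S hχ u), fun y hy => ?_⟩)
    obtain ⟨x, hx⟩ := b.surjective ⟨y, hy⟩
    have hxu : (u : Ω) * x * (u : Ω)⁻¹ ∈ P :=
      (Subgroup.mem_normalizer_iff.1 (hU u.2).2 x).1 x.2
    have e1 : χ u * y * (χ u)⁻¹ = ((a u : U) : Ω) * y * ((a u : U) : Ω)⁻¹ := by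
      have h1 : χ (Subgroup.inclusion hPU x) = y :=
        (hχe x x.2 _).trans (congrArg Subtype.val hx)
      have h2 : ((a (Subgroup.inclusion hPU x) : U) : Ω) = y :=
        (hab x).trans (congrArg Subtype.val hx)
      have h3 : χ (u * Subgroup.inclusion hPU x * u⁻¹) =
          ((a (u * Subgroup.inclusion hPU x * u⁻¹) : U) : Ω) :=
        (hχe _ hxu (u * Subgroup.inclusion hPU x * u⁻¹).2).trans (hab ⟨_, hxu⟩).symm
      simp only [map_mul, map_inv, Subgroup.coe_mul, InvMemClass.coe_inv, h1, h2] at h3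
      exact h3
    calc y * (((a u : U) : Ω)⁻¹ * χ u)
        = ((a u : U) : Ω)⁻¹ * (((a u : U) : Ω) * y * ((a u : U) : Ω)⁻¹) * χ u := by group
      _ = ((a u : U) : Ω)⁻¹ * χ u * y := by rw [← e1]; group
  have hχU : ∀ u : U, χ u ∈ U := fun u => by
    simpa using mul_mem (a u).2 (hPU (hz u))
  have hr : χ.range = U := by
    refine eq_of_le_of_card_le hUT ?_ (card_range hχ).ge
    rintro _ ⟨u, rfl⟩
    exact hχU u
  let a' := autOfRange χ (E.injective_of_mem hχ) hr
  have ha'E : a' ∈ E.autGroup U := autOfRange_mem hχ hr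
  have ha'b : Agree hPU a' b := fun x =>
    (coe_autOfRange χ (E.injective_of_mem hχ) hr _).trans (hχe x x.2 _)
  -- `γ = a⁻¹ a'` has `p`-power order
  set γ := a⁻¹ * a' with hγdef
  have hγP : Agree hPU γ (1 : MulAut P) := by simpa using hab.inv.mul ha'b
  have hγ : ∀ u : U, ∃ z : P, γ u = u * Subgroup.inclusion hPU z := fun u => by
    refine ⟨b⁻¹ ⟨_, hz u⟩, ?_⟩
    rw [← hab.inv.apply]
    refine a.injective ?_
    rw [hγdef, MulAut.mul_apply, MulAut.apply_inv_self, map_mul, MulAut.apply_inv_self]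
    refine Subtype.ext ?_
    simp only [Subgroup.coe_mul, Subgroup.coe_inclusion]
    rw [coe_autOfRange χ (E.injective_of_mem hχ) hr, mul_inv_cancel_left]
  obtain ⟨i, hi⟩ := IsPGroup.iff_card.1 (isPGroup_of_le hS (hP.1.trans hTS))
  have hγp : γ ^ p ^ i = 1 := by
    refine MulEquiv.ext fun u => ?_
    obtain ⟨z, hz'⟩ := hγ u
    have hn : ∀ n : ℕ, (γ ^ n) u = u * Subgroup.inclusion hPU (z ^ n) := by
      intro n
      induction n with
      | zero => simp
      | succ n ih =>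
        rw [pow_succ', MulAut.mul_apply, ih, map_mul, hz', hγP.apply, MulAut.one_apply, pow_succ',
          map_mul, mul_assoc]
    rw [hn, ← hi, pow_card_eq_one', map_one, mul_one]
    rfl
  let Fa := F.autGroup U
  let EU : Subgroup Fa := (E.autGroup U).subgroupOf Fa
  haveI : EU.Normal := ⟨fun n hn g => invariant_conj_aut hinv hUT g.2 hn⟩
  have ha'F : a' ∈ Fa := autGroup_mono' hinv.1 U ha'E
  let g : Fa := ⟨a, ha⟩
  let gp : Fa := ⟨γ, mul_mem (inv_mem ha) ha'F⟩
  have he : QuotientGroup.mk' EU g⁻¹ = QuotientGroup.mk' EU gp := by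
    refine (QuotientGroup.mk'_eq_mk' EU).2 ⟨⟨a', ha'F⟩, ha'E, Subtype.ext ?_⟩
    rfl
  have h1 : orderOf (QuotientGroup.mk' EU gp) ∣ p ^ i :=
    orderOf_dvd_of_pow_eq_one (by
      rw [← map_pow, show gp ^ p ^ i = 1 from Subtype.ext hγp, map_one])
  have hg : (orderOf g).Coprime p := by rwa [← Subgroup.orderOf_coe]
  have h2 : orderOf (QuotientGroup.mk' EU gp) ∣ orderOf g := by
    rw [← he, map_inv, orderOf_inv]
    exact orderOf_map_dvd _ _
  have h3 := orderOf_eq_one_iff.1 (Nat.eq_one_of_dvd_coprimes (hg.pow_right i) h2 h1)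
  rw [← he, map_inv, inv_eq_one] at h3
  exact Subgroup.mem_subgroupOf.1 ((QuotientGroup.eq_one_iff g).1 h3)

include hS hEs in
/-- A subgroup containing `J(N_T(P))`, for `P` centric. -/
theorem centric_thompson (hTS : T ≤ S) {P : Subgroup Ω} (hP : E.IsCentric P)
    (hPn : E.IsFullyNormalized P)
    (hJP : thompsonSubgroupAOf (normalizerIn T P) ≤ P) :
    E.IsCentric (thompsonSubgroupAOf (normalizerIn T P)) := by
  have hT := isPGroup_of_le hS hTS
  haveI := finite_of_le hTS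
  set V := normalizerIn T P with hV
  set J := thompsonSubgroupAOf V with hJdef
  have hVT : V ≤ T := normalizerIn_le_S P
  have hJT : J ≤ T := hJP.trans hP.1
  have hJV : J ≤ V := thompsonAOf_le V
  haveI := finite_of_le hVT
  obtain ⟨J₂, hJ₂, hJ₂n⟩ := exists_fullyNormalized E hJT
  obtain ⟨g₁, g₂⟩ := good_of_fullyNormalized p hT hEs hJ₂n
  obtain ⟨φ, hφ, hφN, hφJ⟩ := exists_map_normalizer p hT g₁ g₂ hJ₂
  have hVN : V ≤ normalizerIn T J := le_inf hVT
    ((CfsgLib.Fusion.isCharIn_thompsonAOf (S := V)).le_normalizer)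
  have hPN : P ≤ normalizerIn T J := (le_normalizerIn hP.1).trans hVN
  set P₂ := (P.subgroupOf (normalizerIn T J)).map φ with hP₂def
  have hPP₂ : E.IsConj P P₂ := isConj_map hφ hPN
  have hP₂c := isCentric_of_isConj hP hPP₂
  -- the image of `V` is `N_T(P₂)`
  let f : V →* Ω := φ.comp (Subgroup.inclusion hVN)
  have hfinj : Function.Injective f :=
    (E.injective_of_mem hφ).comp (Subgroup.inclusion_injective hVN)
  have hfr : f.range = normalizerIn T P₂ := by
    refine eq_of_le_of_card_le (normalizerIn_le_S P₂) ?_ ?_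
    · rintro _ ⟨v, rfl⟩
      refine ⟨apply_mem_S hφ _, mem_normalizer_of_conj_mem hP₂c.1 fun y hy => ?_⟩
      obtain ⟨w, hw, hwP, rfl⟩ := mem_map_subgroupOf.1 hy
      show f v * φ ⟨w, hw⟩ * (f v)⁻¹ ∈ P₂
      simp only [f, MonoidHom.comp_apply]
      rw [← map_inv, ← map_mul, ← map_mul]
      exact apply_mem_map_subgroupOf φ ((Subgroup.mem_normalizer_iff.1 v.2.2 w).1 hwP)
    · calc Nat.card ↥(normalizerIn T P₂) ≤ Nat.card V := hPn.2 P₂ hPP₂
        _ = Nat.card f.range := Nat.card_congr (MonoidHom.ofInjective hfinj).toEquiv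
  have hJ₂J : J₂ = thompsonSubgroupAOf (normalizerIn T P₂) := by
    rw [← hfr, thompsonAOf_range f hfinj, ← hφJ]
    ext y
    constructor
    · intro hy
      obtain ⟨x, hx, hxJ, rfl⟩ := mem_map_subgroupOf.1 hy
      obtain ⟨v, hv, hve⟩ := hxJ
      exact ⟨v, hv, apply_congr φ hve⟩
    · rintro ⟨v, hv, rfl⟩
      exact apply_mem_map_subgroupOf φ (x := Subgroup.inclusion hVN v) ⟨v, hv, rfl⟩
  have hJP₂ : J₂ ≤ P₂ := by
    rw [← hφJ, hP₂def]
    exact Subgroup.map_mono fun x hx => hJP hx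
  set V₂ := normalizerIn T P₂ with hV₂
  haveI := finite_of_le (normalizerIn_le_S (S := T) P₂)
  have hTJ : ∀ x ∈ V₂, x ∈ Subgroup.centralizer (J₂ : Set Ω) → x ∈ J₂ := by
    intro x hx hxc
    rw [hJ₂J] at hxc ⊢
    have hmap : thompsonSubgroupAOf V₂ = (thompsonSubgroupAOf (⊤ : Subgroup V₂)).map V₂.subtype := by
      rw [thompsonAOf_map _ V₂.subtype_injective, ← MonoidHom.range_eq_map, V₂.range_subtype]
    have h1 : (⟨x, hx⟩ : V₂) ∈ thompsonSubgroupAOf (⊤ : Subgroup V₂) :=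
      CfsgLib.AutDiv.thompsonA_inf_centralizer_le _ ⟨Subgroup.mem_top _,
        Subgroup.mem_centralizer_iff.2 fun y hy => Subtype.ext
          (hxc y (hmap.ge (Subgroup.mem_map_of_mem _ hy)))⟩
    exact hmap.ge (Subgroup.mem_map_of_mem _ h1)
  have hY : centralizerIn T J₂ ≤ J₂ := by
    have hYP : centralizerIn T J₂ ≤ P₂ := by
      by_contra hcon
      set Y := centralizerIn T J₂
      have hlt : P₂ < P₂ ⊔ Y := lt_of_le_not_ge le_sup_left fun h => hcon (le_sup_right.trans h)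
      obtain ⟨g, hg, hgP⟩ := SetLike.exists_of_lt
        (lt_normalizerIn p hT (sup_le hP₂c.1 (centralizerIn_le_S J₂)) hlt)
      have hPY : P₂ ≤ Subgroup.normalizer (Y : Set Ω) := fun x hx => by
        have hxV : x ∈ V₂ := le_normalizerIn hP₂c.1 hx
        have hxJ : x ∈ Subgroup.normalizer (J₂ : Set Ω) := by
          rw [hJ₂J]
          exact (CfsgLib.Fusion.isCharIn_thompsonAOf (S := V₂)).le_normalizer hxV
        refine mem_normalizer_of_conj_mem (centralizerIn_le_S J₂) fun y hy => ?_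
        refine mem_centralizerIn.2 ⟨mul_mem (mul_mem hxV.1 hy.1) (inv_mem hxV.1), fun w hw => ?_⟩
        have h1 := hy.2 _ ((Subgroup.mem_normalizer_iff''.1 hxJ w).1 hw)
        calc w * (x * y * x⁻¹) = x * ((x⁻¹ * w * x) * y) * x⁻¹ := by group
          _ = x * y * x⁻¹ * w := by rw [h1]; group
      have hg' : g ∈ ((P₂ ⊔ Y : Subgroup Ω) : Set Ω) := hg.1
      rw [Subgroup.coe_mul_of_left_le_normalizer_right P₂ Y hPY] at hg'
      obtain ⟨x, hx, y, hy, rfl⟩ := hg'
      have hyV : y ∈ V₂ := by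
        have h1 : (x * y : Ω) ∈ V₂ := ⟨mul_mem (hP₂c.1 hx) hy.1, hg.2⟩
        simpa using mul_mem (inv_mem (le_normalizerIn hP₂c.1 hx : x ∈ V₂)) h1
      exact hgP (mul_mem hx (hJP₂ (hTJ y hyV hy.2)))
    exact fun y hy => hTJ y (le_normalizerIn hP₂c.1 (hYP hy)) hy.2
  refine ⟨hJT, fun J' hJ' y hy => ?_⟩
  have hJ'2 : E.IsConj J' J₂ := isConj_trans (isConj_symm hJ') hJ₂
  obtain ⟨ψ, hψ, hψN, hψJ⟩ := exists_map_normalizer p hT g₁ g₂ hJ'2
  have hyN : y ∈ normalizerIn T J' := centralizerIn_le_normalizerIn J' hy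
  have h1 : ψ ⟨y, hyN⟩ ∈ centralizerIn T J₂ := by
    have := map_mem_centralizerIn hψ (le_normalizerIn (IsConj.le_right hJ')) hy hyN
    rwa [hψJ] at this
  obtain ⟨x, hx, hxJ, hxe⟩ := mem_map_subgroupOf.1 (hψJ.ge (hY h1))
  have hxy : x = y := congrArg Subtype.val (E.injective_of_mem hψ hxe)
  exact hxy ▸ hxJ

/-- A group acting on `P` in which the normal closure of `N_T(P)` has it as Sylow subgroup. -/
structure Ctx (p : ℕ) (F : FusionSystem S) (E : FusionSystem T) (P : Subgroup Ω) where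
  /-- the group -/
  G : Type u
  [grp : Group G]
  [fin : Finite G]
  /-- the embedding of `N_S(P)` -/
  j : ↥(normalizerIn S P) →* G
  inj : Function.Injective j
  range_p : IsPGroup p j.range
  normalP : (img j P).Normal
  aut : ∀ (D : Subgroup Ω) (hD : D ≤ normalizerIn S P) (g : G),
    (∀ x : D, g * j ⟨x, hD x.2⟩ * g⁻¹ ∈ img j D) →
    ∃ a ∈ F.autGroup D, ∀ x : D, j ⟨((a x : D) : Ω), hD (a x).2⟩ = g * j ⟨x, hD x.2⟩ * g⁻¹
  lift : ∀ (hP : P ≤ normalizerIn S P), ∀ a ∈ F.autGroup P, ∃ g : G, ∀ x : P,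
    j ⟨((a x : P) : Ω), hP (a x).2⟩ = g * j ⟨x, hP x.2⟩ * g⁻¹
  max : ∀ R : Subgroup G, IsPGroup p R → img j (normalizerIn T P) ≤ R →
    R ≤ Subgroup.normalClosure ((img j (normalizerIn T P) : Subgroup G) : Set G) →
    R ≤ img j (normalizerIn T P)
  comm : ∀ g ∈ Subgroup.normalClosure ((img j (normalizerIn T P) : Subgroup G) : Set G),
    ∀ x : ↥(normalizerIn S P), (x : Ω) ∈ centralizerIn S P → g * j x * g⁻¹ * (j x)⁻¹ ∈ img j P
  ker : ∀ g ∈ Subgroup.normalClosure ((img j (normalizerIn T P) : Subgroup G) : Set G),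
    g ∈ Subgroup.centralizer ((img j P : Subgroup G) : Set G) → (orderOf g).Coprime p → g = 1
  acts : ∀ (hP : P ≤ normalizerIn S P),
    ∀ g ∈ Subgroup.normalClosure ((img j (normalizerIn T P) : Subgroup G) : Set G),
    ∃ a ∈ E.autGroup P, ∀ x : P, j ⟨((a x : P) : Ω), hP (a x).2⟩ = g * j ⟨x, hP x.2⟩ * g⁻¹

attribute [instance] Ctx.grp Ctx.fin

include hS hF hEs hinv in
theorem exists_ctx {P : Subgroup Ω} (hP : E.IsCentric P) (hPn : E.IsFullyNormalized P) :
    Nonempty (Ctx p F E P) := by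
  classical
  have hTS := le_of_subsystem hinv.1
  have hPT : P ≤ T := hP.1
  have hPS : P ≤ S := hPT.trans hTS
  haveI := finite_of_le hPS
  haveI : Finite (MulAut P) := finite_mulAut
  set V := normalizerIn T P with hVdef
  have hVNS : V ≤ normalizerIn S P := inf_le_inf_right _ hTS
  have hPN : P ≤ normalizerIn S P := le_normalizerIn hPS
  -- the local group
  obtain ⟨Q, hPQ, hQn⟩ := exists_fullyNormalized F hPS
  obtain ⟨g₁, g₂⟩ := good_of_fullyNormalized p hS hF hQn
  obtain ⟨χ, hχ, hχN, hχP⟩ := exists_map_normalizer p hS g₁ g₂ hPQ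
  obtain ⟨M⟩ := exists_loc hS hF hQn
  set j := M.via χ hχN with hjdef
  have hjinj : Function.Injective j := fun a b hab =>
    F.injective_of_mem hχ (congrArg Subtype.val (M.inj hab) :)
  have hQT : Q ≤ T := fun y hy => by
    obtain ⟨x, hx, hxP, rfl⟩ := mem_map_subgroupOf.1 (hχP.ge hy)
    exact map_mem_of_stronglyClosed hinv.2.1 hχ (hPT hxP)
  have hQN : Q ≤ normalizerIn S Q := le_normalizerIn hQn.1
  have hVmap : (V.subgroupOf (normalizerIn S P)).map χ = normalizerIn T Q := by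
    refine eq_of_le_of_card_le ((normalizerIn_le_S Q).trans hTS) ?_ ?_
    · rintro _ ⟨x, hx, rfl⟩
      exact ⟨map_mem_of_stronglyClosed hinv.2.1 hχ (Subgroup.mem_subgroupOf.1 hx).1, (hχN x).2⟩
    · -- `P` is fully normalized in `E`
      obtain ⟨φ, hφ, hr⟩ := hPQ
      obtain ⟨α, hα, φ₀, hφ₀, he⟩ := hinv.2.2.2 P hPT φ hφ
      refine le_trans ?_ ((hPn.2 φ₀.range ⟨φ₀, hφ₀, rfl⟩).trans (le_of_eq
        (card_map_subgroupOf (F.injective_of_mem hχ) hVNS).symm))
      haveI := finite_of_le hTS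
      haveI := finite_of_le (show normalizerIn T φ₀.range ≤ S from (normalizerIn_le_S _).trans hTS)
      refine Nat.card_le_card_of_injective (fun y : normalizerIn T Q =>
        (⟨((α⁻¹ ⟨y, y.2.1⟩ : T) : Ω), (α⁻¹ ⟨y, y.2.1⟩).2,
          mem_normalizer_of_conj_mem (range_le_S hφ₀) ?_⟩ : normalizerIn T φ₀.range)) ?_
      · rintro _ ⟨x, rfl⟩
        have hφx : φ x ∈ Q := hr.le ⟨x, rfl⟩
        obtain ⟨x', hx'⟩ := hr.ge ((Subgroup.mem_normalizer_iff.1 y.2.2 (φ x)).1 hφx)
        refine ⟨x', ?_⟩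
        have h1 : (⟨φ₀ x', apply_mem_S hφ₀ x'⟩ : T) =
            α⁻¹ ⟨y, y.2.1⟩ * ⟨φ₀ x, apply_mem_S hφ₀ x⟩ * (α⁻¹ ⟨y, y.2.1⟩)⁻¹ := by
          refine α.injective (Subtype.ext ?_)
          simp only [map_mul, map_inv, MulAut.apply_inv_self, Subgroup.coe_mul,
            InvMemClass.coe_inv]
          rw [← he, ← he, hx']
        exact congrArg Subtype.val h1
      · intro a b hab
        have h1 : (α⁻¹ ⟨a, a.2.1⟩ : T) = α⁻¹ ⟨b, b.2.1⟩ :=
          Subtype.ext (congrArg Subtype.val hab :)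
        exact Subtype.ext (congrArg Subtype.val (α⁻¹.injective h1) :)
  set VG := img M.ι (normalizerIn T Q) with hVGdef
  have himgj : ∀ X : Subgroup Ω, X ≤ normalizerIn S P → ∀ X' : Subgroup Ω,
      (X.subgroupOf (normalizerIn S P)).map χ = X' → img j X = img M.ι X' := by
    intro X hX X' hX'
    ext y
    constructor
    · rintro ⟨x, hx, rfl⟩
      exact apply_mem_img (x := ⟨χ x, hχN x⟩) (hX' ▸ apply_mem_map_subgroupOf χ hx)
    · rintro ⟨w, hw, rfl⟩
      obtain ⟨x, hxN, hxX, hxe⟩ := mem_map_subgroupOf.1 (hX'.ge hw)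
      exact ⟨⟨x, hxN⟩, hxX, congrArg M.ι (Subtype.ext hxe)⟩
  have hjV : img j V = VG := himgj V hVNS _ hVmap
  have hjP : img j P = img M.ι Q := himgj P hPN Q hχP
  set Qg := img M.ι Q with hQg
  set Cg := img M.ι (centralizerIn S Q) with hCg
  set L := Subgroup.normalClosure (VG : Set M.G) with hLdef
  haveI hLn : L.Normal := Subgroup.normalClosure_normal
  haveI := M.normalQ
  haveI := M.normalC
  have hQVG : Qg ≤ VG := fun _ ⟨x, hx, he⟩ => ⟨x, le_normalizerIn hQT hx, he⟩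
  have hVL : VG ≤ L := Subgroup.le_normalClosure
  -- `V` is strongly closed
  have hsc : ∀ v ∈ VG, ∀ g : M.G, g * v * g⁻¹ ∈ M.ι.range → g * v * g⁻¹ ∈ VG := by
    rintro _ ⟨v, hv, rfl⟩ g hg
    obtain ⟨φ, hφ, hφN, hφe⟩ := M.real (Subgroup.zpowers (v : Ω)) (Subgroup.zpowers_le.2 v.2) g
      (by
        rintro ⟨x, hx⟩
        obtain ⟨k, rfl⟩ := Subgroup.mem_zpowers_iff.1 hx
        obtain ⟨w, hw⟩ := hg
        refine ⟨w ^ k, ?_⟩
        rw [map_zpow, hw, conj_zpow, ← map_zpow]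
        exact congrArg (fun q => g * M.ι q * g⁻¹) (Subtype.ext (by simp)))
    have h1 := hφe ⟨v, Subgroup.mem_zpowers _⟩
    rw [show g * M.ι v * g⁻¹ = M.ι ⟨φ ⟨v, Subgroup.mem_zpowers _⟩, hφN _⟩ from h1.symm]
    refine apply_mem_img ⟨?_, (hφN _).2⟩
    exact map_mem_of_stronglyClosed hinv.2.1 hφ hv.1
  -- the action on `Q`, through `E`
  have hQact : ∀ g : M.G, ∃ a ∈ F.autGroup Q, ∀ x : Q,
      M.ι ⟨((a x : Q) : Ω), hQN (a x).2⟩ = g * M.ι ⟨x, hQN x.2⟩ * g⁻¹ := by
    intro g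
    exact M.exists_aut (χ := (normalizerIn S Q).subtype) (subtype_mem (normalizerIn_le_S Q))
      (fun x => x.2) hQN fun x => M.normalQ.conj_mem _ (apply_mem_img (ι := M.ι) (x := ⟨x, hQN x.2⟩) x.2) g
  have hPact : ∀ g : M.G, ∃ a ∈ F.autGroup P, ∀ x : P,
      j ⟨((a x : P) : Ω), hPN (a x).2⟩ = g * j ⟨x, hPN x.2⟩ * g⁻¹ := fun g =>
    M.exists_aut hχ hχN hPN fun x => by
      rw [hjP]
      exact M.normalQ.conj_mem _
        (hjP.le (apply_mem_img (ι := j) (x := ⟨x, hPN x.2⟩) x.2)) g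
  have hQL : ∀ g ∈ L, ∃ a ∈ E.autGroup Q, ∀ x : Q,
      M.ι ⟨((a x : Q) : Ω), hQN (a x).2⟩ = g * M.ι ⟨x, hQN x.2⟩ * g⁻¹ := fun g hg =>
    acts_of_mem_normalClosure hinv hQT M.inj hQN hQact hg
  have hPL : ∀ g ∈ L, ∃ a ∈ E.autGroup P, ∀ x : P,
      j ⟨((a x : P) : Ω), hPN (a x).2⟩ = g * j ⟨x, hPN x.2⟩ * g⁻¹ := fun g hg =>
    acts_of_mem_normalClosure hinv hPT hjinj hPN hPact (by rw [hjV]; exact hg)
  -- the centralizer of `Q` modulo `Q`
  have hCL : ∀ g ∈ L, ∀ m ∈ Cg, g * m * g⁻¹ * m⁻¹ ∈ Qg := by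
    intro g hg m hm
    let K : Subgroup M.G := (Subgroup.centralizer
      ((Cg.map (QuotientGroup.mk' Qg) : Subgroup (M.G ⧸ Qg)) : Set (M.G ⧸ Qg))).comap
        (QuotientGroup.mk' Qg)
    haveI : (Cg.map (QuotientGroup.mk' Qg)).Normal :=
      M.normalC.map _ (QuotientGroup.mk'_surjective Qg)
    have hKn : K.Normal := (inferInstance : (Subgroup.centralizer
      ((Cg.map (QuotientGroup.mk' Qg) : Subgroup (M.G ⧸ Qg)) : Set (M.G ⧸ Qg))).Normal).comap _
    have hgen : ∀ v ∈ VG, ∀ m ∈ Cg, v * m * v⁻¹ * m⁻¹ ∈ Qg := by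
      rintro _ ⟨v, hv, rfl⟩ _ ⟨y, hy, rfl⟩
      rw [← map_inv, ← map_mul, ← map_mul, ← map_inv, ← map_mul]
      refine apply_mem_img (centralizer_le_of_isConj hinv hP hPQ (mem_centralizerIn.2 ⟨?_, ?_⟩))
      · show (v : Ω) * y * (v : Ω)⁻¹ * (y : Ω)⁻¹ ∈ T
        have h1 := (Subgroup.mem_normalizer_iff.1 ((stronglyClosed_normal_in_S hinv.2.1) hy.1)
          (v : Ω)⁻¹).1 (inv_mem hv.1)
        simpa [mul_assoc] using mul_mem hv.1 h1
      · intro q hq
        show q * ((v : Ω) * y * (v : Ω)⁻¹ * (y : Ω)⁻¹) = (v : Ω) * y * (v : Ω)⁻¹ * (y : Ω)⁻¹ * q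
        have e1 := (mem_centralizerIn.1 hy).2 q hq
        have e2 := (mem_centralizerIn.1 hy).2 _ ((Subgroup.mem_normalizer_iff''.1 hv.2 q).1 hq)
        have e3 : Commute q ((v : Ω) * y * (v : Ω)⁻¹) := by
          show q * _ = _ * q
          simp only [Subgroup.coe_subtype] at e2
          calc q * ((v : Ω) * y * (v : Ω)⁻¹)
              = (v : Ω) * (((v : Ω)⁻¹ * q * v) * y) * (v : Ω)⁻¹ := by group
            _ = (v : Ω) * y * (v : Ω)⁻¹ * q := by rw [e2]; group
        exact (e3.mul_right (show Commute q (y : Ω) from e1).inv_right).eq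
    have hle : L ≤ K := Subgroup.normalClosure_le_normal fun v hv => by
      refine Subgroup.mem_centralizer_iff.2 ?_
      rintro _ ⟨m, hm, rfl⟩
      have h1 : QuotientGroup.mk' Qg (v * m * v⁻¹ * m⁻¹) = 1 :=
        (QuotientGroup.eq_one_iff _).2 (hgen v hv m hm)
      simp only [map_mul, map_inv] at h1
      exact (mul_inv_eq_iff_eq_mul.1 (mul_inv_eq_one.1 h1)).symm
    have h1 : QuotientGroup.mk' Qg m * QuotientGroup.mk' Qg g =
        QuotientGroup.mk' Qg g * QuotientGroup.mk' Qg m :=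
      Subgroup.mem_centralizer_iff.1 (hle hg) _ ⟨m, hm, rfl⟩
    refine (QuotientGroup.eq_one_iff _).1 ?_
    show QuotientGroup.mk' Qg (g * m * g⁻¹ * m⁻¹) = 1
    simp only [map_mul, map_inv]
    rw [← h1]; group
  -- the kernel on `Q`
  have hker : ∀ g ∈ L, g ∈ Subgroup.centralizer (Qg : Set M.G) → (orderOf g).Coprime p →
      g = 1 := by
    intro g hg hgQ hco
    obtain ⟨i, hi⟩ := IsPGroup.iff_card.1 ((isPGroup_of_le hS
      (normalizerIn_le_S Q)).of_surjective M.ι.rangeRestrict M.ι.rangeRestrict_surjective)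
    have hcomm : g ∈ Subgroup.centralizer ((Qg ⊔ Cg : Subgroup M.G) : Set M.G) := by
      refine Subgroup.le_centralizer_iff.1 (sup_le ?_ ?_) (Subgroup.mem_zpowers g)
      · exact Subgroup.le_centralizer_iff.1 (Subgroup.zpowers_le.2 hgQ)
      · refine Subgroup.le_centralizer_iff.1 (Subgroup.zpowers_le.2
          (Subgroup.mem_centralizer_iff.2 fun m hm => ?_))
        obtain ⟨d, hd⟩ : ∃ d, d = g * m * g⁻¹ * m⁻¹ := ⟨_, rfl⟩
        have hdQ : d ∈ Qg := hd ▸ hCL g hg m hm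
        have hmd : d * m = m * d := by
          obtain ⟨w, hw, rfl⟩ := hdQ
          obtain ⟨y, hy, rfl⟩ := hm
          rw [← map_mul, ← map_mul]
          exact congrArg M.ι (Subtype.ext ((mem_centralizerIn.1 hy).2 w hw))
        have hgd : g * d * g⁻¹ = d := by
          rw [← Subgroup.mem_centralizer_iff.1 hgQ d hdQ, mul_inv_cancel_right]
        have h1 : g * m * g⁻¹ = m * d := by rw [← hmd, hd]; group
        have h2 := eq_one_of_shift hco hgd h1
          ((isPGroup_of_le hS (normalizerIn_le_S Q)).of_surjective M.ι.rangeRestrict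
            M.ι.rangeRestrict_surjective) (img_le_range Q hdQ)
        rw [h2, mul_one] at h1
        exact (mul_inv_eq_iff_eq_mul.1 h1).symm
    have hgr : g ∈ M.ι.range := sup_le (img_le_range Q) (img_le_range _) (M.cent hcomm)
    have h1 : orderOf g ∣ p ^ i := by
      rw [← hi, show orderOf g = orderOf (⟨g, hgr⟩ : M.ι.range) from (Subgroup.orderOf_coe (⟨g, hgr⟩ : M.ι.range))]
      exact orderOf_dvd_natCard _
    exact orderOf_eq_one_iff.1 (Nat.eq_one_of_dvd_coprimes (hco.pow_right i) dvd_rfl h1)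
  -- `V` is a Sylow subgroup of `L`
  have hrangeP : IsPGroup p M.ι.range := (isPGroup_of_le hS (normalizerIn_le_S Q)).of_surjective
    M.ι.rangeRestrict M.ι.rangeRestrict_surjective
  let U : Sylow p M.G :=
    { toSubgroup := M.ι.range
      isPGroup' := hrangeP
      is_maximal' := fun {R} hR hle => le_antisymm (M.sylow R hR hle) hle }
  set PL := L ⊓ M.ι.range with hPLdef
  have hPLV : PL ≤ VG := by
    let PS : Sylow p L :=
      { toSubgroup := PL.subgroupOf L
        isPGroup' := (hrangeP.to_le inf_le_right).comap_of_injective _ L.subtype_injective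
        is_maximal' := fun {R} hR hle => le_antisymm (fun r hr =>
          Subgroup.mem_subgroupOf.2 (maximal_inf_of_normal U L (hR.map L.subtype)
            (fun x hx => ⟨⟨x, hx.1⟩, hle hx, rfl⟩) (Subgroup.map_subtype_le R)
            ⟨r, hr, rfl⟩)) hle }
    have hVGL : VG.subgroupOf L ≤ (PS : Subgroup L) := fun x hx =>
      Subgroup.mem_subgroupOf.2 ⟨x.2, img_le_range _ hx⟩
    -- elements of `PL` lie in `VG Cg`
    have hsplit : ∀ x ∈ PL, ∃ v ∈ VG, ∃ m ∈ Cg, x = v * m := by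
      rintro _ ⟨hxL, s, rfl⟩
      obtain ⟨a, ha, hae⟩ := hQL _ hxL
      have hQEn : E.IsFullyNormalized Q := fullyNormalized_sub p hS hF hinv.2.1 hinv.1 hQT hQn
      have haS : a ∈ autInducedBy S Q := mem_autInducedBy.2 ⟨s, s.2.1, fun x => by
        have h1 := hae x
        rw [← map_inv, ← map_mul, ← map_mul] at h1
        exact congrArg Subtype.val (M.inj h1)⟩
      haveI := finite_of_le hTS
      obtain ⟨t, ht, hte⟩ := mem_autInducedBy.1
        (ConstrainedNormal.mem_inducedBy p hS hTS hEs hQEn ha haS)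
      have htN : t ∈ normalizerIn S Q := ⟨hTS ht, mem_normalizer_of_aut hte⟩
      refine ⟨M.ι ⟨t, htN⟩, apply_mem_img ⟨ht, htN.2⟩, (M.ι ⟨t, htN⟩)⁻¹ * M.ι s, ?_, by group⟩
      rw [← map_inv, ← map_mul]
      refine apply_mem_img (mem_centralizerIn.2 ⟨(⟨t, htN⟩⁻¹ * s : ↥(normalizerIn S Q)).2.1,
        fun q hq => ?_⟩)
      have h1 := hae ⟨q, hq⟩
      rw [← map_inv, ← map_mul, ← map_mul] at h1
      have h2 : (s : Ω) * q * (s : Ω)⁻¹ = t * q * t⁻¹ :=
        ((congrArg Subtype.val (M.inj h1)).symm).trans (hte ⟨q, hq⟩)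
      show q * (t⁻¹ * (s : Ω)) = t⁻¹ * (s : Ω) * q
      calc q * (t⁻¹ * (s : Ω)) = t⁻¹ * (t * q * t⁻¹) * (s : Ω) := by group
        _ = t⁻¹ * (s : Ω) * q := by rw [← h2]; group
    have hfoc : Subgroup.focalSubgroup (PS : Subgroup L) ≤ VG.subgroupOf L := by
      refine (Subgroup.closure_le _).2 ?_
      rintro _ ⟨hmem, x, hx, g, rfl⟩
      obtain ⟨v, hv, m, hm, hxe⟩ := hsplit x hx
      -- `g x⁻¹ g⁻¹` lies in `PL`
      have hy : (g : M.G) * (x : M.G)⁻¹ * (g : M.G)⁻¹ ∈ PL := by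
        have h1 : ((⁅x, g⁆ : L) : M.G) ∈ PL := hmem
        rw [show (g : M.G) * (x : M.G)⁻¹ * (g : M.G)⁻¹ = (x : M.G)⁻¹ * ((⁅x, g⁆ : L) : M.G) by
          simp [commutatorElement_def]; group]
        exact mul_mem (inv_mem hx) h1
      have hxinv : (g : M.G) * x * (g : M.G)⁻¹ ∈ M.ι.range := by
        have h1 := M.ι.range.inv_mem hy.2
        simpa [mul_assoc] using h1
      obtain ⟨z, hz, hze⟩ : ∃ z ∈ Qg, (g : M.G) * m * (g : M.G)⁻¹ = z * m :=
        ⟨_, hCL g g.2 m hm, by group⟩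
      have hgv : (g : M.G) * v * (g : M.G)⁻¹ ∈ VG := by
        refine hsc v hv g ?_
        rw [show (g : M.G) * v * (g : M.G)⁻¹ =
          ((g : M.G) * x * (g : M.G)⁻¹) * ((g : M.G) * m * (g : M.G)⁻¹)⁻¹ by rw [hxe]; group, hze]
        exact mul_mem hxinv (inv_mem (mul_mem (img_le_range Q hz) (img_le_range _ hm)))
      rw [SetLike.mem_coe, Subgroup.mem_subgroupOf]
      rw [show ((⁅x, g⁆ : L) : M.G) = (x : M.G) * ((g : M.G) * x * (g : M.G)⁻¹)⁻¹ by
        simp [commutatorElement_def]; group, hxe,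
        show (g : M.G) * (v * m) * (g : M.G)⁻¹ =
          ((g : M.G) * v * (g : M.G)⁻¹) * ((g : M.G) * m * (g : M.G)⁻¹) by group, hze,
        show v * m * ((g : M.G) * v * (g : M.G)⁻¹ * (z * m))⁻¹ =
          v * z⁻¹ * ((g : M.G) * v * (g : M.G)⁻¹)⁻¹ by group]
      exact mul_mem (mul_mem hv (inv_mem (hQVG hz))) (inv_mem hgv)
    obtain ⟨K, hKn, hVK, hKP, -⟩ := ConstrainedNormal.exists_kernel PS _ hVGL hfoc
    have hLK : L ≤ K.map L.subtype := by
      refine (Subgroup.closure_le _).2 fun y hy => ?_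
      obtain ⟨v, hv, g, hg⟩ := Group.mem_conjugatesOfSet_iff.1 hy
      have hyv : y = (g : M.G) * v * (g : M.G)⁻¹ := eq_mul_inv_of_mul_eq hg.eq.symm
      have hyL : y ∈ L := hyv ▸ hLn.conj_mem v (hVL hv) g
      have hyp : IsPGroup p (Subgroup.zpowers (⟨y, hyL⟩ : L)) := by
        have hc : IsPGroup p (VG.map (MulAut.conj (g : M.G)).toMonoidHom) :=
          (hrangeP.to_le (img_le_range _)).map _
        have h1 : IsPGroup p (Subgroup.zpowers y) :=
          hc.to_le (Subgroup.zpowers_le.2 ⟨v, hv, hyv.symm⟩)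
        refine (h1.comap_of_injective _ L.subtype_injective).to_le (Subgroup.zpowers_le.2 ?_)
        exact Subgroup.mem_zpowers y
      obtain ⟨P', hP'⟩ := hyp.exists_le_sylow
      obtain ⟨l, hl⟩ := MulAction.exists_smul_eq L P' PS
      have hcy : l * ⟨y, hyL⟩ * l⁻¹ ∈ (PS : Subgroup L) := by
        rw [← hl, Sylow.coe_subgroup_smul]
        exact ⟨_, hP' (Subgroup.mem_zpowers _), rfl⟩
      have hcv : ((l * ⟨y, hyL⟩ * l⁻¹ : L) : M.G) ∈ VG := by
        have h1 : ((l * ⟨y, hyL⟩ * l⁻¹ : L) : M.G) =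
            ((l : M.G) * g) * v * ((l : M.G) * g)⁻¹ := by
          simp only [Subgroup.coe_mul, InvMemClass.coe_inv, hyv]; group
        rw [h1]
        exact hsc v hv _ (h1 ▸ (Subgroup.mem_subgroupOf.1 hcy).2)
      refine ⟨⟨y, hyL⟩, ?_, rfl⟩
      have h2 := hKn.conj_mem _ (hVK (show l * ⟨y, hyL⟩ * l⁻¹ ∈ VG.subgroupOf L from hcv)) l⁻¹
      simpa [mul_assoc] using h2
    intro x hx
    obtain ⟨x', hx', rfl⟩ := hLK hx.1
    exact hKP x' hx' hx
  have hmax : ∀ R : Subgroup M.G, IsPGroup p R → VG ≤ R → R ≤ L → R ≤ VG := fun R hR hVR hRL =>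
    (maximal_inf_of_normal U L hR (hPLV.trans hVR) hRL).trans hPLV
  refine ⟨{ G := M.G, j := j, inj := hjinj, normalP := hjP ▸ M.normalQ, aut := ?_, lift := ?_,
            range_p := hrangeP.to_le ?_, max := ?_, comm := ?_, ker := ?_, acts := ?_ }⟩
  · rintro _ ⟨x, rfl⟩
    exact ⟨⟨χ x, hχN x⟩, rfl⟩
  · exact fun D hD g hg => M.exists_aut hχ hχN hD hg
  · intro _ a ha
    have hφP : χ.comp (Subgroup.inclusion hPN) ∈ F.Hom P := restrict_mem hχ hPN
    let e := isoRange _ (F.injective_of_mem hφP) ((range_restrict χ hPN).trans hχP)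
    obtain ⟨g, hg⟩ := M.lift hQN _ (pow_mem_autGroup_iso hPS hφP e (fun x => rfl) ha)
    refine ⟨g, fun x => ?_⟩
    have h1 := hg (e x)
    simp only [MulAut.congr_apply, MulEquiv.trans_apply, MulEquiv.symm_apply_apply] at h1
    exact h1
  · rw [hjV]
    exact hmax
  · rw [hjV, hjP]
    intro g hg x hx
    have h1 := map_mem_centralizerIn hχ hPN hx x.2
    rw [hχP] at h1
    exact hCL g hg _ (apply_mem_img (ι := M.ι) (x := ⟨χ x, hχN x⟩) h1)
  · rw [hjV, hjP]
    exact hker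
  · intro _ g hg
    rw [hjV] at hg
    exact hPL g hg

include hinv in
omit [Fact p.Prime] in
/-- A conjugate of an element of `Aut_T(P)` lifts fixing `c` when the normal closure of `N_T(P)`
fixes `c`. -/
theorem Ctx.lifts_conj (hc : c ∈ centralizerIn S T) {P : Subgroup Ω} (K : Ctx p F E P) (hPT : P ≤ T)
    (hcN : c ∈ normalizerIn S P)
    (hfix : ∀ l ∈ Subgroup.normalClosure ((img K.j (normalizerIn T P) : Subgroup K.G) : Set K.G),
      l * K.j ⟨c, hcN⟩ = K.j ⟨c, hcN⟩ * l)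
    (γ t : E.autGroup P) (ht : (t : MulAut P) ∈ autInducedBy T P) :
    Lifts F c ((γ : MulAut P) * (t : MulAut P) * (γ : MulAut P)⁻¹) := by
  have hTS := le_of_subsystem hinv.1
  have hPS : P ≤ S := hPT.trans hTS
  haveI := finite_of_le hPS
  haveI := finite_of_le (adj_le hc hPT hTS)
  set V := normalizerIn T P with hVdef
  have hVNS : V ≤ normalizerIn S P := inf_le_inf_right _ hTS
  have hPN : P ≤ normalizerIn S P := le_normalizerIn hPS
  set j := K.j with hjdef
  have hjinj : Function.Injective j := K.inj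
  set cg := j ⟨c, hcN⟩ with hcg
  set VG := img j V with hVG
  set L := Subgroup.normalClosure (VG : Set K.G) with hLdef
  haveI hLn : L.Normal := Subgroup.normalClosure_normal
  have hVL : VG ≤ L := Subgroup.le_normalClosure
  have hfixL := hfix
  obtain ⟨v, hv, hvt⟩ := mem_autInducedBy.1 ht
  have hvV : v ∈ V := ⟨hv, mem_normalizer_of_aut hvt⟩
  obtain ⟨g, hg⟩ := K.lift hPN _ (autGroup_mono' hinv.1 P γ.2)
  have hgj : ∀ x : P, j ⟨(((γ : MulAut P) x : P) : Ω), hPN ((γ : MulAut P) x).2⟩ =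
      g * j ⟨x, hPN x.2⟩ * g⁻¹ := hg
  set l := g * j ⟨v, hVNS hvV⟩ * g⁻¹ with hldef
  have hjvVG : j ⟨v, hVNS hvV⟩ ∈ VG := apply_mem_img (ι := j) (x := ⟨v, hVNS hvV⟩) hvV
  have hlL : l ∈ L := hLn.conj_mem _ (hVL hjvVG) g
  have hD : adj c P ≤ normalizerIn S P := sup_le hPN (Subgroup.zpowers_le.2 hcN)
  obtain ⟨σ, hσ, hσe⟩ := K.aut _ hD l fun x => by
    have hsub : img j (adj c P) ≤ (img j (adj c P)).comap (MulAut.conj l).toMonoidHom := by
      have he : img j (adj c P) = img j P ⊔ Subgroup.zpowers cg := by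
        have h1 : (Subgroup.zpowers c).subgroupOf (normalizerIn S P) =
            Subgroup.zpowers ⟨c, hcN⟩ := by
          ext x
          simp only [Subgroup.mem_subgroupOf, Subgroup.mem_zpowers_iff]
          exact exists_congr fun k => by rw [Subtype.ext_iff]; simp
        unfold img
        rw [Subgroup.subgroupOf_sup hPN (Subgroup.zpowers_le.2 hcN), Subgroup.map_sup, h1,
          MonoidHom.map_zpowers]
      rw [he]
      refine sup_le (fun y hy => Subgroup.mem_sup_left ?_) (Subgroup.zpowers_le.2 ?_)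
      · exact K.normalP.conj_mem y hy l
      · show l * cg * l⁻¹ ∈ img j P ⊔ Subgroup.zpowers cg
        rw [hfixL l hlL, mul_inv_cancel_right]
        exact Subgroup.mem_sup_right (Subgroup.mem_zpowers _)
    exact hsub (apply_mem_img (ι := j) (x := ⟨x, hD x.2⟩) x.2)
  refine ⟨σ, hσ, fun x => ?_, ?_⟩
  · refine congrArg Subtype.val (hjinj (a₁ := ⟨_, hD (σ (Subgroup.inclusion le_sup_left x)).2⟩)
      (a₂ := ⟨_, hPN (((γ : MulAut P) * (t : MulAut P) * (γ : MulAut P)⁻¹) x).2⟩) ?_)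
    rw [hσe]
    have h1 := hgj ((γ : MulAut P)⁻¹ x)
    simp only [MulAut.apply_inv_self] at h1
    have h2 : (⟨(((t : MulAut P) ((γ : MulAut P)⁻¹ x) : P) : Ω), hPN (Subtype.coe_prop _)⟩ :
        ↥(normalizerIn S P)) = ⟨v, hVNS hvV⟩ *
          ⟨(((γ : MulAut P)⁻¹ x : P) : Ω), hPN (Subtype.coe_prop _)⟩ * ⟨v, hVNS hvV⟩⁻¹ :=
      Subtype.ext (hvt _)
    show l * j ⟨x, _⟩ * l⁻¹ = _
    simp only [MulAut.mul_apply]
    rw [hgj, h2, map_mul, map_mul, map_inv, hldef, h1]
    group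
  · refine Subtype.ext ?_
    refine congrArg (fun w : ↥(normalizerIn S P) => (w : Ω))
      (hjinj (a₁ := ⟨_, hD (σ (adjElt c P)).2⟩)
      (a₂ := ⟨c, hcN⟩) ?_)
    rw [hσe]
    show l * cg * l⁻¹ = cg
    rw [hfixL l hlL, mul_inv_cancel_right]

include hS hF hEs hinv in
/-- The automorphisms in `E` of a fully normalized centric subgroup lift fixing `c`, given that
those of the normalizer do and that larger subgroups are good. -/
theorem lifts_of_local (hp : p ≠ 2) (hc : c ∈ centralizerIn S T) {P : Subgroup Ω}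
    (hP : E.IsCentric P) (hPn : E.IsFullyNormalized P)
    (hgood : ∀ U : Subgroup Ω, E.IsCentric U → U ≤ normalizerIn T P →
      normalizerIn T P ≤ normalizerIn T U →
      (P < U ∨ (U = thompsonSubgroupAOf (normalizerIn T P) ∧
        thompsonSubgroupAOf (normalizerIn T P) ≤ P)) → Good F E c U)
    (hV : ∀ a ∈ E.autGroup (normalizerIn T P), Lifts F c a) :
    ∀ a ∈ E.autGroup P, Lifts F c a := by
  classical
  have hTS := le_of_subsystem hinv.1
  have hT := isPGroup_of_le hS hTS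
  have hPT : P ≤ T := hP.1
  have hPS : P ≤ S := hPT.trans hTS
  haveI := finite_of_le hPS
  haveI : Finite (MulAut P) := finite_mulAut
  set V := normalizerIn T P with hVdef
  have hVT : V ≤ T := normalizerIn_le_S P
  have hPV : P ≤ V := le_normalizerIn hPT
  have hVNS : V ≤ normalizerIn S P := inf_le_inf_right _ hTS
  have hPN : P ≤ normalizerIn S P := le_normalizerIn hPS
  have hcN : c ∈ normalizerIn S P :=
    centralizerIn_le_normalizerIn P ⟨hc.1, Subgroup.centralizer_le hPT hc.2⟩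
  -- the local group
  obtain ⟨K⟩ := exists_ctx hS hF hEs hinv hP hPn
  set j := K.j with hjdef
  have hjinj : Function.Injective j := K.inj
  set Qg := img j P with hQg
  set VG := img j V with hVG
  set L := Subgroup.normalClosure (VG : Set K.G) with hLdef
  haveI hLn : L.Normal := Subgroup.normalClosure_normal
  haveI := K.normalP
  have hVL : VG ≤ L := Subgroup.le_normalClosure
  have hQVG : Qg ≤ VG := fun _ ⟨x, hx, he⟩ => ⟨x, hPV hx, he⟩
  have hrangeP := K.range_p
  have hmax := K.max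
  have hker := K.ker
  have hPL := K.acts hPN
  -- `c`
  set cg := j ⟨c, hcN⟩ with hcg
  have hcC : c ∈ centralizerIn S P := ⟨hc.1, Subgroup.centralizer_le hPT hc.2⟩
  have hcgV : cg ∈ Subgroup.centralizer (VG : Set K.G) := by
    refine Subgroup.mem_centralizer_iff.2 ?_
    rintro _ ⟨x, hx, rfl⟩
    rw [hcg, ← map_mul, ← map_mul]
    exact congrArg j (Subtype.ext (hc.2 (x : Ω) (hVT hx)))
  have hcp : IsPGroup p (Subgroup.zpowers cg) :=
    hrangeP.to_le (Subgroup.zpowers_le.2 ⟨_, rfl⟩)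
  -- the inductive step at `J`
  have hJimg : thompsonSubgroupAOf VG = img j (thompsonSubgroupAOf V) := by
    rw [hVG]
    unfold img
    rw [← thompsonAOf_map _ hjinj]
    refine congrArg (Subgroup.map j) ?_
    refine Subgroup.map_injective (normalizerIn S P).subtype_injective ?_
    rw [thompsonAOf_map _ (normalizerIn S P).subtype_injective, Subgroup.map_subgroupOf_eq_of_le hVNS,
      Subgroup.map_subgroupOf_eq_of_le ((thompsonAOf_le V).trans hVNS)]
  haveI := finite_of_le (hVT.trans hTS)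
  have hJ : ∀ l ∈ L, l ∈ Subgroup.normalizer ((thompsonSubgroupAOf VG : Subgroup K.G) : Set K.G) →
      l * cg = cg * l := by
    intro l₀ hl₀ hl₀n
    set J := thompsonSubgroupAOf V with hJdef
    set K' : Subgroup K.G :=
      L ⊓ Subgroup.normalizer ((thompsonSubgroupAOf VG : Subgroup K.G) : Set K.G) with hK'
    have hVK' : VG ≤ K' := le_inf hVL
      ((CfsgLib.Fusion.isCharIn_thompsonAOf (S := VG)).le_normalizer)
    let RK : Sylow p K' :=
      { toSubgroup := VG.subgroupOf K'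
        isPGroup' := (hrangeP.to_le (img_le_range _)).comap_of_injective _ K'.subtype_injective
        is_maximal' := fun {R} hR hle => le_antisymm (fun r hr =>
          Subgroup.mem_subgroupOf.2 (hmax (R.map K'.subtype) (hR.map _)
            (fun x hx => ⟨⟨x, hVK' hx⟩, hle hx, rfl⟩)
            ((Subgroup.map_subtype_le R).trans inf_le_left) ⟨r, hr, rfl⟩)) hle }
    let B : Subgroup K' := (Subgroup.centralizer {cg}).subgroupOf K'
    suffices h : (⊤ : Subgroup K') ≤ B from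
      Subgroup.mem_centralizer_singleton_iff.1 (h (Subgroup.mem_top ⟨l₀, hl₀, hl₀n⟩))
    refine le_of_sylow_coprime p RK le_top (fun v hv => Subgroup.mem_subgroupOf.2
      (Subgroup.mem_centralizer_singleton_iff.2 (hcgV _ hv))) fun ⟨l, hl, hln⟩ _ hco => ?_
    refine Subgroup.mem_subgroupOf.2 (Subgroup.mem_centralizer_singleton_iff.2 ?_)
    show l * cg = cg * l
    have hco' : (orderOf l).Coprime p := by rwa [← Subgroup.orderOf_coe] at hco
    have hJV : J ≤ V := thompsonAOf_le V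
    -- the subgroup `U`
    obtain ⟨U₀, hU₀c, hU₀V, hPU₀, hU₀n, hU₀img⟩ : ∃ U₀ : Subgroup Ω, E.IsCentric U₀ ∧ U₀ ≤ V ∧
        (P < U₀ ∨ (U₀ = J ∧ J ≤ P)) ∧ V ≤ normalizerIn T U₀ ∧
        ∀ x ∈ img j U₀, l * x * l⁻¹ ∈ img j U₀ := by
      have hJn : ∀ x ∈ img j J, l * x * l⁻¹ ∈ img j J := fun x hx => by
        rw [← hJimg] at hx ⊢
        exact (Subgroup.mem_normalizer_iff.1 hln x).1 hx
      have hVJ : V ≤ Subgroup.normalizer (J : Set Ω) :=
        (CfsgLib.Fusion.isCharIn_thompsonAOf (S := V)).le_normalizer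
      by_cases hJP : J ≤ P
      · exact ⟨J, centric_thompson hS hEs hTS hP hPn hJP, hJV, Or.inr ⟨rfl, hJP⟩,
          le_inf hVT hVJ, hJn⟩
      · refine ⟨P ⊔ J, isCentric_mono hP le_sup_left (sup_le hPT (hJV.trans hVT)),
          sup_le hPV hJV, Or.inl (lt_of_le_not_ge le_sup_left fun h => hJP (le_sup_right.trans h)),
          le_inf hVT fun v hv => ?_, ?_⟩
        · exact mem_normalizer_sup (S := S) hPS (hJV.trans (hVT.trans hTS)) hv.2 (hVJ hv)
        · intro x hx
          have he : img j (P ⊔ J) = img j P ⊔ img j J := by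
            unfold img
            rw [Subgroup.subgroupOf_sup hPN (hJV.trans hVNS), Subgroup.map_sup]
          rw [he] at hx ⊢
          have hsub : img j P ⊔ img j J ≤
              (img j P ⊔ img j J).comap (MulAut.conj l).toMonoidHom := by
            refine sup_le (fun y hy => Subgroup.mem_sup_left ?_)
              (fun y hy => Subgroup.mem_sup_right (hJn y hy))
            exact K.normalP.conj_mem y hy l
          exact hsub hx
    have hU₀T : U₀ ≤ T := hU₀V.trans hVT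
    -- `l` moves `c` inside `c U₀`
    obtain ⟨z, hzU, hze⟩ : ∃ z : ↥(normalizerIn S P), (z : Ω) ∈ U₀ ∧
        l * cg * l⁻¹ = cg * j z := by
      have hd := K.comm l hl ⟨c, hcN⟩ hcC
      have hconj : cg⁻¹ * (l * cg * l⁻¹ * cg⁻¹) * cg ∈ Qg := by
        have := K.normalP.conj_mem _ hd cg⁻¹
        simpa using this
      obtain ⟨z, hz, hze⟩ := hconj
      have e : l * cg * l⁻¹ = cg * j z := by rw [hze]; group
      refine ⟨z, ?_, e⟩
      rcases hPU₀ with hlt | ⟨hU₀, hJP⟩
      · exact hlt.le hz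
      · -- `z` centralizes `P`
        have hzc : ∀ x ∈ P, x * (z : Ω) = z * x := by
          intro x hx
          have hcc : cg ∈ Subgroup.centralizer (Qg : Set K.G) :=
            Subgroup.centralizer_le hQVG hcgV
          have h1 : j z ∈ Subgroup.centralizer (Qg : Set K.G) := by
            rw [show j z = cg⁻¹ * (l * cg * l⁻¹) by rw [e]; group]
            exact mul_mem (inv_mem hcc) ((inferInstance :
              (Subgroup.centralizer (Qg : Set K.G)).Normal).conj_mem _ hcc l)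
          refine congrArg Subtype.val (hjinj
            (a₁ := (⟨x, hPN hx⟩ * z : ↥(normalizerIn S P))) (a₂ := z * ⟨x, hPN hx⟩) ?_)
          rw [map_mul, map_mul]
          exact Subgroup.mem_centralizer_iff.1 h1 _ (apply_mem_img hx)
        rw [hU₀]
        have hJtop : J = (thompsonSubgroupAOf (⊤ : Subgroup V)).map V.subtype := by
          rw [thompsonAOf_map _ V.subtype_injective, ← MonoidHom.range_eq_map, V.range_subtype]
        have hzV : (z : Ω) ∈ V := hPV hz
        have h3 : (⟨z, hzV⟩ : V) ∈ thompsonSubgroupAOf (⊤ : Subgroup V) := by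
          refine CfsgLib.AutDiv.thompsonA_inf_centralizer_le _ ⟨Subgroup.mem_top _, ?_⟩
          refine Subgroup.mem_centralizer_iff.2 fun y hy => Subtype.ext (hzc _ (hJP ?_))
          rw [hJtop]
          exact Subgroup.mem_map_of_mem _ hy
        rw [hJtop]
        exact Subgroup.mem_map_of_mem _ h3
    -- the automorphism of `U₀ ⟨c⟩`
    have hD : adj c U₀ ≤ normalizerIn S P :=
      sup_le (hU₀V.trans hVNS) (Subgroup.zpowers_le.2 hcN)
    have hDimg : ∀ x : adj c U₀, l * j ⟨x, hD x.2⟩ * l⁻¹ ∈ img j (adj c U₀) := by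
      intro x
      have hsub : img j (adj c U₀) ≤ (img j (adj c U₀)).comap (MulAut.conj l).toMonoidHom := by
        have he : img j (adj c U₀) = img j U₀ ⊔ Subgroup.zpowers cg := by
          have h1 : (Subgroup.zpowers c).subgroupOf (normalizerIn S P) =
              Subgroup.zpowers ⟨c, hcN⟩ := by
            ext x
            simp only [Subgroup.mem_subgroupOf, Subgroup.mem_zpowers_iff]
            exact exists_congr fun k => by rw [Subtype.ext_iff]; simp
          unfold img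
          rw [Subgroup.subgroupOf_sup (hU₀V.trans hVNS) (Subgroup.zpowers_le.2 hcN),
            Subgroup.map_sup, h1, MonoidHom.map_zpowers]
        rw [he]
        refine sup_le (fun y hy => Subgroup.mem_sup_left (hU₀img y hy))
          (Subgroup.zpowers_le.2 ?_)
        show l * cg * l⁻¹ ∈ img j U₀ ⊔ Subgroup.zpowers cg
        rw [hze]
        exact mul_mem (Subgroup.mem_sup_right (Subgroup.mem_zpowers _))
          (Subgroup.mem_sup_left (apply_mem_img hzU))
      exact hsub (apply_mem_img (ι := j) (x := ⟨x, hD x.2⟩) x.2)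
    obtain ⟨ψ, hψ, hψe⟩ := K.aut _ hD l hDimg
    have hψco : (orderOf ψ).Coprime p :=
      Nat.Coprime.coprime_dvd_left (order_of_realized hjinj hD hψe) hco'
    haveI := finite_of_le (hU₀T.trans hTS)
    haveI := finite_of_le (adj_le hc hU₀T hTS)
    have hψU : ∀ x : adj c U₀, (x : Ω) ∈ U₀ → ((ψ x : adj c U₀) : Ω) ∈ U₀ := by
      intro x hx
      refine (mem_img hjinj (x := ⟨_, hD (ψ x).2⟩)).1 ?_
      rw [hψe]
      exact hU₀img _ (apply_mem_img (ι := j) (x := ⟨x, hD x.2⟩) hx)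
    obtain ⟨a, ha⟩ := exists_agree (le_sup_left : U₀ ≤ adj c U₀) ψ hψU
    have haj : ∀ x : U₀, j ⟨((a x : U₀) : Ω), hVNS (hU₀V (a x).2)⟩ =
        l * j ⟨x, hVNS (hU₀V x.2)⟩ * l⁻¹ := fun x =>
      (congrArg j (Subtype.ext (ha x).symm)).trans (hψe (Subgroup.inclusion le_sup_left x))
    have haco : (orderOf a).Coprime p :=
      Nat.Coprime.coprime_dvd_left (order_of_realized hjinj (hU₀V.trans hVNS) haj) hco'
    obtain ⟨aP, haP, haPe⟩ := hPL l hl
    have haE : a ∈ E.autGroup U₀ := by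
      have hval : ∀ (x : Ω) (hx : x ∈ P) (hxU : x ∈ U₀),
          ((a ⟨x, hxU⟩ : U₀) : Ω) = ((aP ⟨x, hx⟩ : P) : Ω) := fun x hx hxU =>
        congrArg Subtype.val (hjinj ((haj ⟨x, hxU⟩).trans (haPe ⟨x, hx⟩).symm))
      rcases hPU₀ with hlt | ⟨hU₀, hJP⟩
      · exact mem_of_restrict hS hEs hinv hP hlt.le hU₀V (ha.mem (adj_le hc hU₀T hTS) hψ) haco haP
          fun x => hval x x.2 (hlt.le x.2)
      · have hUP : U₀ ≤ P := hU₀.le.trans hJP
        exact (autGroup_carrier hU₀T).2 (restrict_mem_of_eq ((autGroup_carrier hPT).1 haP) hUP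
          fun x => hval x (hUP x.2) x.2)
    have hψc : ((ψ (adjElt c U₀) : adj c U₀) : Ω) = c * z := by
      exact congrArg Subtype.val (hjinj (a₁ := ⟨_, hD (ψ (adjElt c U₀)).2⟩)
        (a₂ := ⟨c, hcN⟩ * z) (((hψe (adjElt c U₀)).trans hze).trans (map_mul j _ _).symm))
    have hfix := (hgood U₀ hU₀c hU₀V hU₀n hPU₀).fix (isPGroup_of_le hS (hU₀T.trans hTS)) hc hU₀T
      hψ haE ha hψco (by rw [hψc, inv_mul_cancel_left]; exact hzU)
    have hz1 : z = 1 := by
      rw [hfix] at hψc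
      exact Subtype.ext (left_eq_mul.1 hψc)
    rw [hz1, map_one, mul_one] at hze
    exact mul_inv_eq_iff_eq_mul.1 hze
  have hfixL : ∀ l ∈ L, l * cg = cg * l := fun l hl =>
    commute_of_control hp K.normalP hLn hVL hQVG (hrangeP.to_le (img_le_range _)) hmax hcp hcgV hker
      hJ hl
  -- the automorphisms of `P`
  let B : Subgroup (E.autGroup P) :=
    { carrier := {a | Lifts F c (a : MulAut P)}
      one_mem' := ⟨1, one_mem _, Agree.one, rfl⟩
      mul_mem' := by
        rintro a b ⟨σ, hσ, hσa, hσc⟩ ⟨τ, hτ, hτb, hτc⟩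
        exact ⟨σ * τ, mul_mem hσ hτ, hσa.mul hτb, by rw [MulAut.mul_apply, hτc, hσc]⟩
      inv_mem' := by
        rintro a ⟨σ, hσ, hσa, hσc⟩
        refine ⟨σ⁻¹, inv_mem hσ, hσa.inv, σ.injective ?_⟩
        rw [MulAut.apply_inv_self, hσc] }
  intro a ha
  suffices h : (⟨a, ha⟩ : E.autGroup P) ∈ B from h
  refine mem_of_normalizer hS hEs hinv hPT hPn B (fun γ t ht => ?_) (fun b hb hco => ?_) _
  · show Lifts F c ((γ : MulAut P) * (t : MulAut P) * (γ : MulAut P)⁻¹)
    exact K.lifts_conj hinv hc hPT hcN hfixL γ t ht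
  · show Lifts F c (b : MulAut P)
    obtain ⟨b', hb', -, hbb'⟩ := exists_ext_normalizer hS hEs hinv hP hPn hb hco
    obtain ⟨σ, hσ, hσb, hσc⟩ := hV b' hb'
    have hle : adj c P ≤ adj c V := sup_le_sup_right hPV _
    haveI := finite_of_le (adj_le hc hPT hTS)
    have hsub : adj c P ≤ (((adj c P).subgroupOf (adj c V)).comap σ.toMonoidHom).map
        (adj c V).subtype := by
      refine sup_le (fun x hx => ⟨Subgroup.inclusion le_sup_left ⟨x, hPV hx⟩, ?_, rfl⟩)
        (Subgroup.zpowers_le.2 ⟨adjElt c V, ?_, rfl⟩)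
      · refine Subgroup.mem_sup_left (Set.mem_of_eq_of_mem ((hσb _).trans ?_) ((b : MulAut P) ⟨x, hx⟩).2)
        exact hbb' ⟨x, hx⟩
      · show ((σ (adjElt c V) : adj c V) : Ω) ∈ adj c P
        rw [hσc]
        exact Subgroup.mem_sup_right (Subgroup.mem_zpowers c)
    obtain ⟨τ, hτ⟩ := exists_agree hle σ fun x hx => by
      obtain ⟨y, hy, hye⟩ := hsub hx
      exact (Subtype.ext hye : y = x) ▸ hy
    refine ⟨τ, hτ.mem (adj_le hc hVT hTS) hσ, fun x => ?_, ?_⟩
    · rw [← hτ (Subgroup.inclusion le_sup_left x)]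
      exact (hσb (Subgroup.inclusion hPV x)).trans (hbb' x)
    · refine Subtype.ext ((hτ (adjElt c P)).symm.trans ?_)
      show ((σ (adjElt c V) : adj c V) : Ω) = c
      rw [hσc]
      rfl

end

end CfsgLib.NormalCentral
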