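import Cfsg.Agent.Fusion.NormalCentral.Base

/-!
For `p` odd an element centralizing `T` is, up to `T`, centralized by a normal subsystem over `T`.
-/

set_option autoImplicit false
set_option linter.style.haveILetI false

open Cfsg Cfsg.FusionSystem CfsgLib.Fusion CfsgLib.FocCent

namespace CfsgLib.NormalCentral

universe u

variable {Ω : Type u} [Group Ω] {S T : Subgroup Ω} {F : FusionSystem S} {E : FusionSystem T} {c : Ω}

/-- The range of a map on `U ⟨c⟩` fixing `c`. -/
theorem range_adj {U U' : Subgroup Ω} {φ : U →* Ω} (hr : φ.range = U') {ψ : adj c U →* Ω}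
    (hψe : ∀ x : U, ψ (Subgroup.inclusion le_sup_left x) = φ x) (hψc : ψ (adjElt c U) = c) :
    ψ.range = adj c U' := by
  have h1 : (U.subgroupOf (adj c U)).map ψ = U' :=
    (map_eq_range_of_eq le_sup_left fun x hx _ => hψe ⟨x, hx⟩).trans hr
  have h2 : ((Subgroup.zpowers c).subgroupOf (adj c U)).map ψ = Subgroup.zpowers c := by
    have : (Subgroup.zpowers c).subgroupOf (adj c U) = Subgroup.zpowers (adjElt c U) := by
      ext x
      simp only [Subgroup.mem_subgroupOf, Subgroup.mem_zpowers_iff]
      exact exists_congr fun k => by rw [Subtype.ext_iff]; simp [adjElt]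
    rw [this, MonoidHom.map_zpowers, hψc]
  rw [range_eq_sup, h1, h2]

variable [Finite S] {p : ℕ} [Fact p.Prime]

/-- All centric subgroups of `E` are good for a suitable translate of `c`. -/
theorem good_all (hp : p ≠ 2) (hS : IsPGroup p S) (hF : F.IsSaturated p) (hEs : E.IsSaturated p)
    (hinv : E.IsInvariantIn F) (hc : c ∈ centralizerIn S T) (hT : Good F E c T)
    (hJ : Good F E c (thompsonSubgroupAOf T)) :
    ∀ P φ, φ ∈ E.Hom P → φ ∈ F.centralizerHom (Subgroup.zpowers c) P := by
  classical
  have hTS := le_of_subsystem hinv.1
  have hTp := isPGroup_of_le hS hTS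
  haveI := finite_of_le hTS
  set E₂ := fixC E F hTS hc with hE₂
  -- maps on large subgroups
  have habove : ∀ k, (∀ Y : Subgroup Ω, E.IsEssential p Y → k ≤ Nat.card Y → Good F E c Y) →
      ∀ P : Subgroup Ω, k ≤ Nat.card P → E.Hom P ⊆ E₂.Hom P := by
    intro k hk
    refine alperin_above p hTp hEs E₂ k fun Y hY hkY α hα => ?_
    rcases hY with rfl | hY
    · exact fixC_of_lifts le_rfl hα (hT.1 α hα)
    · exact fixC_of_lifts hY.1.1 hα ((hk Y hY hkY).1 α hα)
  have hgood : ∀ (d : ℕ) (U : Subgroup Ω), E.IsCentric U →
      Nat.card T - Nat.card (normalizerIn T U) = d → Good F E c U := by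
    intro d
    induction d using Nat.strong_induction_on with
    | _ d IH =>
    intro U hU hd
    obtain ⟨e, he⟩ : ∃ e, Nat.card T - Nat.card U = e := ⟨_, rfl⟩
    induction e using Nat.strong_induction_on generalizing U with
    | _ e IHe =>
    have hUT := hU.1
    set V := normalizerIn T U with hV
    have hVT : V ≤ T := normalizerIn_le_S U
    haveI := finite_of_le (hVT.trans hTS)
    have hcardV : Nat.card V ≤ Nat.card T := card_le_of_le (S := T) le_rfl hVT
    have hbig : ∀ P : Subgroup Ω, Nat.card V ≤ Nat.card P → E.Hom P ⊆ E₂.Hom P :=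
      habove (Nat.card V) fun Y hY hkY => by
        refine IH _ ?_ Y hY.1 rfl
        have hYT := hY.1.1
        have hlt := lt_normalizerIn p hTp le_rfl (essential_lt p hTp hEs hY)
        have h1 : Nat.card Y < Nat.card (normalizerIn T Y) :=
          lt_of_not_ge fun hge => hlt.ne
            (eq_of_le_of_card_le (S := T) (normalizerIn_le_S Y) hlt.le hge)
        have h2 : Nat.card (normalizerIn T Y) ≤ Nat.card T :=
          card_le_of_le (S := T) le_rfl (normalizerIn_le_S Y)
        omega
    obtain ⟨U', hUU', hU'n⟩ := exists_fullyNormalized E hUT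
    rcases Nat.lt_or_ge (Nat.card V) (Nat.card (normalizerIn T U')) with hlt | hge
    · -- move to a fully normalized conjugate
      have hU'g : Good F E c U' := by
        refine IH _ ?_ U' (isCentric_of_isConj hU hUU') rfl
        have := card_le_of_le (S := T) le_rfl (normalizerIn_le_S (S := T) U')
        omega
      obtain ⟨g₁, g₂⟩ := good_of_fullyNormalized p hTp hEs hU'n
      obtain ⟨φ, hφ, -, hφU⟩ := exists_map_normalizer p hTp g₁ g₂ hUU'
      obtain ⟨ψ, hψ, hψe, hψc⟩ := exists_adj_of_fixC (hbig V le_rfl hφ)
      have hUV : U ≤ V := le_normalizerIn hUT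
      have hle : adj c U ≤ adj c V := sup_le_sup_right hUV _
      let ψU := ψ.comp (Subgroup.inclusion hle)
      have hψUe : ∀ x : U, ψU (Subgroup.inclusion le_sup_left x) =
          φ.comp (Subgroup.inclusion hUV) x := fun x => hψe (Subgroup.inclusion hUV x)
      have hψUc : ψU (adjElt c U) = c := hψc
      have hr : (φ.comp (Subgroup.inclusion hUV)).range = U' :=
        (range_restrict φ hUV).trans hφU
      have hψr := range_adj hr hψUe hψUc
      obtain ⟨θ, hθ, hθr, hθ1, -⟩ := exists_inv (restrict_mem hψ hle) hψr
      obtain ⟨ν, hν, hνr, hν1, -⟩ := exists_inv (restrict_mem hφ hUV) hr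
      refine hU'g.map hc hTS hU'n.1 hν hνr hθ (fun y => ?_) ?_
      · obtain ⟨x, hx⟩ := hr.ge y.2
        have h1 := hν1 x (hx ▸ y.2)
        have h2 := hθ1 (Subgroup.inclusion le_sup_left x)
          (hψUe x ▸ Subgroup.mem_sup_left (hx ▸ y.2))
        refine ((apply_congr θ ?_).trans h2).trans (h1.symm.trans (apply_congr ν hx))
        exact hx.symm.trans (hψUe x).symm
      · have h2 := hθ1 (adjElt c U)
          (Set.mem_of_eq_of_mem hψUc (Subgroup.mem_sup_right (Subgroup.mem_zpowers c)))
        exact (apply_congr θ hψUc.symm).trans h2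
    · -- the fully normalized case
      have hUn : E.IsFullyNormalized U :=
        ⟨hUT, fun R hR => (hU'n.2 R (isConj_trans (isConj_symm hUU') hR)).trans hge⟩
      by_cases hVT' : V = T
      · -- `U` is normal in `T`
        have hlifts : ∀ a ∈ E.autGroup U, Lifts F c a := by
          refine lifts_of_local hS hF hEs hinv hp hc hU hUn (fun W hW hWV hVW hcase => ?_) ?_
          · rcases hcase with hlt | ⟨rfl, -⟩
            · refine IHe _ ?_ W hW ?_ rfl
              · haveI := finite_of_le (hW.1.trans hTS)
                have h1 : Nat.card U < Nat.card W := lt_of_not_ge fun hge => hlt.ne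
                  (eq_of_le_of_card_le (hW.1.trans hTS) hlt.le hge)
                have := card_le_of_le (S := T) le_rfl hW.1
                omega
              · have h1 : normalizerIn T W = V :=
                  le_antisymm ((normalizerIn_le_S W).trans hVT'.ge) hVW
                rw [h1]; exact hd
            · rw [show normalizerIn T U = T from hVT']
              exact hJ
          · rw [show normalizerIn T U = T from hVT']
            exact hT.1
        refine ⟨hlifts, fixDisp_of hS hF hEs hinv hc hU hUn hlifts ?_⟩
        rw [show normalizerIn T U = T from hVT']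
        exact hT
      · have hVc : E.IsCentric V := isCentric_mono hU (le_normalizerIn hUT) hVT
        have hVlt : V < T := lt_of_le_of_ne hVT hVT'
        have hNV : Nat.card V < Nat.card (normalizerIn T V) := by
          have hlt := lt_normalizerIn p hTp le_rfl hVlt
          exact lt_of_not_ge fun hge => hlt.ne
            (eq_of_le_of_card_le (S := T) (normalizerIn_le_S V) hlt.le hge)
        have hVgood : Good F E c V := by
          refine IH _ ?_ V hVc rfl
          have := card_le_of_le (S := T) le_rfl (normalizerIn_le_S (S := T) V)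
          omega
        have hlifts : ∀ a ∈ E.autGroup U, Lifts F c a := by
          refine lifts_of_local hS hF hEs hinv hp hc hU hUn (fun W hW hWV hVW hcase => ?_) hVgood.1
          have hWT := hW.1
          haveI := finite_of_le (hWT.trans hTS)
          have h2 : Nat.card V ≤ Nat.card (normalizerIn T W) :=
            card_le_of_le (S := T) (normalizerIn_le_S W) hVW
          have h3 : Nat.card (normalizerIn T W) ≤ Nat.card T :=
            card_le_of_le (S := T) le_rfl (normalizerIn_le_S W)
          rcases hcase with hlt | ⟨rfl, -⟩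
          · rcases h2.lt_or_eq with h4 | h4
            · exact IH _ (by omega) W hW rfl
            · refine IHe _ ?_ W hW (by omega) rfl
              have h1 : Nat.card U < Nat.card W := lt_of_not_ge fun hge => hlt.ne
                (eq_of_le_of_card_le (hWT.trans hTS) hlt.le hge)
              have := card_le_of_le (S := T) le_rfl hWT
              omega
          · refine IH _ ?_ _ hW rfl
            have hchar : normalizerIn T V ≤ normalizerIn T (thompsonSubgroupAOf V) := by
              intro g hg
              refine ⟨hg.1, mem_normalizer_of_conj_mem (S := T) hWT fun x hx => ?_⟩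
              have hst := (CfsgLib.Fusion.isCharIn_thompsonAOf (S := V)).2 (conjAut T V ⟨g, hg⟩)
              exact (hst ⟨x, thompsonAOf_le V hx⟩).2 hx
            have h5 : Nat.card (normalizerIn T V) ≤
                Nat.card (normalizerIn T (thompsonSubgroupAOf V)) :=
              card_le_of_le (S := T) (normalizerIn_le_S _) hchar
            have h6 : Nat.card ↥(normalizerIn T (thompsonSubgroupAOf (normalizerIn T U))) =
                Nat.card ↥(normalizerIn T (thompsonSubgroupAOf V)) := rfl
            omega
        exact ⟨hlifts, fixDisp_of hS hF hEs hinv hc hU hUn hlifts hVgood⟩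
  have h := habove 0 fun Y hY _ => hgood _ Y hY.1 rfl
  exact fun P φ hφ => (h P (Nat.zero_le _) hφ).2

/-- **The centralizer of a normal subsystem**: for `p` odd, modulo `T` every element centralizing
`T` centralizes `E`. -/
theorem exists_mul_centralizes (hp : p ≠ 2) (hS : IsPGroup p S) (hF : F.IsSaturated p)
    (hE : E.IsNormalIn F p) (hc : c ∈ centralizerIn S T)
    (hfoc : (centSystem F T (le_of_subsystem hE.1.2.2.1)).focalSubgroup ≤ T) :
    ∃ z ∈ T, c * z ∈ centralizerIn S T ∧
      ∀ P φ, φ ∈ E.Hom P → φ ∈ F.centralizerHom (Subgroup.zpowers (c * z)) P := by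
  obtain ⟨z, hz, hcz, hT, hJ⟩ := exists_base hS hF hE hc hfoc
  exact ⟨z, hz, hcz, good_all hp hS hF hE.1.1 hE.1.2.2 hcz hT hJ⟩

end CfsgLib.NormalCentral
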